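import Cfsg.Agent.Omega.NO3S.SN2.Path.Key

/-!
# SN.Two, THEOREM PATH: (C') (helper347 #21224 (4)-(7))

* `Sit.eta_pair`, `Sit.eta` : `fc i k + fc j k = η (fc i j + fc j i)` on `C_G(V)` for all triples, one `η`;
* `Sit.star` : **if `E` moves one `W_ij`, it moves all of them.**
-/

set_option autoImplicit false
set_option linter.unusedSectionVars false

namespace Cfsg.Agent.Omega.NO3S.SN2.PathW

open Subgroup Pointwise Cfsg.Agent.Omega.S5.Def Cfsg.Agent.Omega.NSix.Base Cfsg.Agent.Omega.NSix.Basic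

universe u

variable {G : Type u} [Group G] {n : ℕ}

/-- Permutations fixing `0` are transitive on triples of different letters `≠ 0`. -/
theorem exists_perm3 [NeZero n] {i j k i' j' k' : Fin n} (h1 : Gp i j) (h2 : Gp i k) (h3 : Gp j k)
    (h1' : Gp i' j') (h2' : Gp i' k') (h3' : Gp j' k') :
    ∃ σ : Equiv.Perm (Fin n), σ 0 = 0 ∧ σ i = i' ∧ σ j = j' ∧ σ k = k' := by
  obtain ⟨σ, e1, e2, e3⟩ := exists_perm h1.2.2 h1'.2.2
  have e0 : σ 0 = 0 := e3 0 h1.1.symm h1.2.1.symm h1'.1.symm h1'.2.1.symm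
  have f1 : σ k ≠ i' := fun h0 => h2.2.2 (σ.injective (e1.trans h0.symm))
  have f2 : σ k ≠ j' := fun h0 => h3.2.2 (σ.injective (e2.trans h0.symm))
  have f0 : σ k ≠ 0 := fun h0 => h2.2.1 (σ.injective (h0.trans e0.symm))
  refine ⟨Equiv.swap (σ k) k' * σ, ?_, ?_, ?_, ?_⟩
  · rw [Equiv.Perm.mul_apply, e0, Equiv.swap_apply_of_ne_of_ne f0.symm h2'.2.1.symm]
  · rw [Equiv.Perm.mul_apply, e1, Equiv.swap_apply_of_ne_of_ne f1.symm h2'.2.2]
  · rw [Equiv.Perm.mul_apply, e2, Equiv.swap_apply_of_ne_of_ne f2.symm h3'.2.2]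
  · rw [Equiv.Perm.mul_apply, Equiv.swap_apply_left]

namespace Sit

variable [NeZero n] {V W : Subgroup G} {ε : (Fin n → ZMod 2) → G} {Wp : Fin n → Fin n → Subgroup G}
  (h : Sit V W ε Wp) {E : Subgroup G}
include h

/-- Every permutation fixing `0` is induced by an element of `C_G(z)` normalising `V`. -/
theorem exists_acts {σ : Equiv.Perm (Fin n)} (h0 : σ 0 = 0) :
    ∃ g ∈ centralizer ({zz ε 0} : Set G), Acts ε g σ := by
  obtain ⟨g, -, hg⟩ := h.ev.full σ
  refine ⟨g, ?_, hg⟩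
  rw [mem_centralizer_singleton_iff]
  exact (h.ev.fixes_iff h.n3 hg 0).2 h0

theorem conj_cen {g : G} {σ : Equiv.Perm (Fin n)} (hg : Acts ε g σ) {q : G}
    (hq : q ∈ centralizer (V : Set G)) : g * q * g⁻¹ ∈ centralizer (V : Set G) := by
  have hgn : g ∈ normalizer (V : Set G) := acts_norm h.ev hg
  rw [mem_centralizer_iff]
  intro v hv
  have h1 : g⁻¹ * v * g ∈ V := by
    have := (mem_normalizer_iff.1 (inv_mem hgn) v).1 hv
    rwa [inv_inv] at this
  have h2 := h.comm_of hq h1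
  calc v * (g * q * g⁻¹) = g * ((g⁻¹ * v * g) * q) * g⁻¹ := by group
    _ = g * (q * (g⁻¹ * v * g)) * g⁻¹ := by rw [h2]
    _ = g * q * g⁻¹ * v := by group

theorem eta_pair [Finite G] (I : Inp V W E) {i j k : Fin n} (hp : Gp i j) (hik : Gp i k) (hjk : Gp j k)
    (hm : ∃ e ∈ E, fc ε Wp i j e ≠ 0 ∨ fc ε Wp j i e ≠ 0) :
    ∃ η : ZMod 2, ∀ q ∈ centralizer (V : Set G),
      fc ε Wp i k q + fc ε Wp j k q = η * (fc ε Wp i j q + fc ε Wp j i q) := by
  obtain ⟨e₁, he₁, a1, b1⟩ := h.full I hp hm 1 0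
  obtain ⟨e₂, he₂, a2, b2⟩ := h.full I hp hm 0 1
  have c1 := I.cen he₁
  have c2 := I.cen he₂
  -- linear dependence
  have lin : ∀ q ∈ centralizer (V : Set G), fc ε Wp i k q + fc ε Wp j k q =
      (fc ε Wp i k e₁ + fc ε Wp j k e₁) * fc ε Wp i j q +
      (fc ε Wp i k e₂ + fc ε Wp j k e₂) * fc ε Wp j i q := by
    intro q hq
    have key : ∀ x : G, x ∈ centralizer (V : Set G) → fc ε Wp i j (q * x) = 0 → fc ε Wp j i (q * x) = 0 →
        fc ε Wp i k q + fc ε Wp j k q = fc ε Wp i k x + fc ε Wp j k x := by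
      intro x hx h1 h2
      have h3 := h.ker I hp hik hjk hm (mul_mem hq hx) h1 h2
      rw [h.fc_mul hik hq hx, h.fc_mul hjk hq hx] at h3
      have hd : ∀ a b c d : ZMod 2, a + b = c + d → a + c = b + d := by decide
      exact hd _ _ _ _ h3
    rcases z01 (fc ε Wp i j q) with h1 | h1 <;> rcases z01 (fc ε Wp j i q) with h2 | h2
    · have h3 := key 1 (one_mem _) (by rw [mul_one, h1]) (by rw [mul_one, h2])
      rw [h3, h1, h2, h.fc_one hik, h.fc_one hjk]
      ring
    · have h3 := key e₂ c2 (by rw [h.fc_mul hp hq c2, h1, a2, add_zero])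
        (by rw [h.fc_mul hp.symm hq c2, h2, b2]; decide)
      rw [h3, h1, h2]
      ring
    · have h3 := key e₁ c1 (by rw [h.fc_mul hp hq c1, h1, a1]; decide)
        (by rw [h.fc_mul hp.symm hq c1, h2, b1, add_zero])
      rw [h3, h1, h2]
      ring
    · have h3 := key (e₁ * e₂) (mul_mem c1 c2)
        (by rw [h.fc_mul hp hq (mul_mem c1 c2), h.fc_mul hp c1 c2, h1, a1, a2]; decide)
        (by rw [h.fc_mul hp.symm hq (mul_mem c1 c2), h.fc_mul hp.symm c1 c2, h2, b1, b2]; decide)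
      rw [h3, h1, h2, h.fc_mul hik c1 c2, h.fc_mul hjk c1 c2]
      ring
  -- the transposition `(ij)`
  obtain ⟨τ, hτ, hτa⟩ := h.exists_acts (σ := Equiv.swap i j)
    (Equiv.swap_apply_of_ne_of_ne hp.1.symm hp.2.1.symm)
  have hk : Equiv.swap i j k = k := Equiv.swap_apply_of_ne_of_ne hik.2.2.symm hjk.2.2.symm
  have f1 := h.fc_conj hp hτ hτa c1
  have f2 := h.fc_conj hp.symm hτ hτa c1
  have f3 := h.fc_conj hik hτ hτa c1
  have f4 := h.fc_conj hjk hτ hτa c1
  rw [Equiv.swap_apply_left, Equiv.swap_apply_right] at f1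
  rw [Equiv.swap_apply_left, Equiv.swap_apply_right] at f2
  rw [Equiv.swap_apply_left, hk] at f3
  rw [Equiv.swap_apply_right, hk] at f4
  have h5 := lin _ (h.conj_cen hτa c1)
  rw [f1, f2, f3, f4, a1, b1] at h5
  refine ⟨fc ε Wp i k e₁ + fc ε Wp j k e₁, fun q hq => ?_⟩
  rw [lin q hq]
  have hd : ∀ x y z w a b : ZMod 2, y + x = (x + y) * 0 + (z + w) * 1 → (x + y) * a + (z + w) * b =
      (x + y) * (a + b) := by decide
  exact hd _ _ _ _ _ _ h5

/-- One `η` for all triples. -/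
theorem eta [Finite G] (I : Inp V W E) {i j : Fin n} (hp : Gp i j)
    (hm : ∃ e ∈ E, fc ε Wp i j e ≠ 0 ∨ fc ε Wp j i e ≠ 0) :
    ∃ η : ZMod 2, ∀ a b c : Fin n, Gp a b → Gp a c → Gp b c → ∀ q ∈ centralizer (V : Set G),
      fc ε Wp a c q + fc ε Wp b c q = η * (fc ε Wp a b q + fc ε Wp b a q) := by
  obtain ⟨k, hk⟩ : ∃ k : Fin n, k ∉ ({0, i, j} : Finset (Fin n)) := by
    by_contra hcon
    push Not at hcon
    have h1 : (Finset.univ : Finset (Fin n)) ⊆ {0, i, j} := fun k _ => hcon k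
    have h2 := Finset.card_le_card h1
    rw [Finset.card_univ, Fintype.card_fin] at h2
    have h3 : ({0, i, j} : Finset (Fin n)).card ≤ 3 := Finset.card_le_three
    have := h.n5
    omega
  simp only [Finset.mem_insert, Finset.mem_singleton, not_or] at hk
  have hik : Gp i k := ⟨hp.1, hk.1, fun h0 => hk.2.1 h0.symm⟩
  have hjk : Gp j k := ⟨hp.2.1, hk.1, fun h0 => hk.2.2 h0.symm⟩
  obtain ⟨η, hη⟩ := h.eta_pair I hp hik hjk hm
  refine ⟨η, fun a b c hab hac hbc q hq => ?_⟩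
  obtain ⟨σ, s0, s1, s2, s3⟩ := exists_perm3 hp hik hjk hab hac hbc
  obtain ⟨g, hg, hga⟩ := h.exists_acts s0
  have hq' : g⁻¹ * q * g ∈ centralizer (V : Set G) := by
    have := h.conj_cen hga.inv hq
    rwa [inv_inv] at this
  have e : g * (g⁻¹ * q * g) * g⁻¹ = q := by group
  have f1 := h.fc_conj hik hg hga hq'
  have f2 := h.fc_conj hjk hg hga hq'
  have f3 := h.fc_conj hp hg hga hq'
  have f4 := h.fc_conj hp.symm hg hga hq'
  rw [e, s1, s3] at f1
  rw [e, s2, s3] at f2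
  rw [e, s1, s2] at f3
  rw [e, s1, s2] at f4
  rw [f1, f2, f3, f4]
  exact hη _ hq'

/-- **(C').** -/
theorem star [Finite G] (I : Inp V W E) {i j : Fin n} (hp : Gp i j)
    (hm : ∃ e ∈ E, fc ε Wp i j e ≠ 0 ∨ fc ε Wp j i e ≠ 0) {k l : Fin n} (hkl : Gp k l) :
    ∃ e ∈ E, fc ε Wp k l e ≠ 0 := by
  obtain ⟨η, hη⟩ := h.eta I hp hm
  -- `M a b`
  have sym : ∀ a b, Gp a b → (∃ e ∈ E, fc ε Wp a b e ≠ 0) → ∃ e ∈ E, fc ε Wp b a e ≠ 0 := by
    rintro a b hab ⟨e, he, hne⟩
    obtain ⟨e', he', -, h2⟩ := h.full I hab ⟨e, he, Or.inl hne⟩ 0 1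
    exact ⟨e', he', by rw [h2]; exact one_ne_zero⟩
  have step : ∀ a b c, Gp a b → Gp a c → Gp b c → (∃ e ∈ E, fc ε Wp a b e ≠ 0) →
      ∃ e ∈ E, fc ε Wp a c e ≠ 0 := by
    intro a b c hab hac hbc hM
    rcases z01 η with h0 | h1
    · -- `fc x y` does not depend on `x`
      obtain ⟨e, he, hne⟩ := sym a b hab hM
      have h2 := hη b c a hbc hab.symm hac.symm e (I.cen he)
      rw [h0, zero_mul] at h2
      refine sym c a hac.symm ⟨e, he, ?_⟩
      have hd : ∀ x y : ZMod 2, x + y = 0 → x ≠ 0 → y ≠ 0 := by decide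
      exact hd _ _ h2 hne
    · -- `fc x y` does not depend on `y`
      obtain ⟨d, hd⟩ : ∃ d : Fin n, d ∉ ({0, a, b, c} : Finset (Fin n)) := by
        by_contra hcon
        push Not at hcon
        have h1 : (Finset.univ : Finset (Fin n)) ⊆ {0, a, b, c} := fun k _ => hcon k
        have h2 := Finset.card_le_card h1
        rw [Finset.card_univ, Fintype.card_fin] at h2
        have h3 : ({0, a, b, c} : Finset (Fin n)).card ≤ 4 := Finset.card_le_four
        have := h.n5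
        omega
      simp only [Finset.mem_insert, Finset.mem_singleton, not_or] at hd
      have had : Gp a d := ⟨hab.1, hd.1, fun h0 => hd.2.1 h0.symm⟩
      have hbd : Gp b d := ⟨hab.2.1, hd.1, fun h0 => hd.2.2.1 h0.symm⟩
      have hcd : Gp c d := ⟨hac.2.1, hd.1, fun h0 => hd.2.2.2 h0.symm⟩
      obtain ⟨e, he, hne⟩ := hM
      have hq := I.cen he
      rw [h1] at hη
      refine ⟨e, he, fun h0 => hne ?_⟩
      -- the equations of the four triples
      have t1 := hη a b c hab hac hbc e hq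
      have t2 := hη a c b hac hab hbc.symm e hq
      have t3 := hη a b d hab had hbd e hq
      have t4 := hη a d b had hab hbd.symm e hq
      have t5 := hη a c d hac had hcd e hq
      have t6 := hη a d c had hac hcd.symm e hq
      have t7 := hη b c d hbc hbd hcd e hq
      have t8 := hη b d c hbd hbc hcd.symm e hq
      rw [one_mul] at t1 t2 t3 t4 t5 t6 t7 t8
      -- `δ{abc} = f_ab + f_ac = f_ba + f_bc = f_ca + f_cb`
      have d1 : ∀ x y z w : ZMod 2, x + y = z + w → z + x = w + y := by decide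
      have u1 := d1 _ _ _ _ t1 -- f_ab + f_ac = f_ba + f_bc
      have u2 := d1 _ _ _ _ t2 -- f_ac + f_ab = f_ca + f_cb
      have u3 := d1 _ _ _ _ t3 -- f_ab + f_ad = f_ba + f_bd
      have u5 := d1 _ _ _ _ t5 -- f_ac + f_ad = f_ca + f_cd
      have u7 := d1 _ _ _ _ t7 -- f_bc + f_bd = f_cb + f_cd
      have fin : ∀ ab ac ad ba bc bd ca cb cd : ZMod 2, ab + ac = ba + bc → ac + ab = ca + cb →
          ab + ad = ba + bd → ac + ad = ca + cd → bc + bd = cb + cd → ab = ac := by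
        intro ab ac ad ba bc bd ca cb cd w1 w2 w3 w5 w7
        have hA : ∀ A B C D : ZMod 2, A + B + C = 0 → A + B + D = 0 → A + C + D = 0 → A = 0 := by decide
        have q1 : (ab + ac) + (ab + ad) + (ac + ad) = 0 := by
          have : ∀ x y z : ZMod 2, (x + y) + (x + z) + (y + z) = 0 := by decide
          exact this _ _ _
        have q2 : (ab + ac) + (ab + ad) + (bc + bd) = 0 := by
          rw [w1, w3]
          have : ∀ x y z : ZMod 2, (x + y) + (x + z) + (y + z) = 0 := by decide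
          exact this _ _ _
        have q3 : (ab + ac) + (ac + ad) + (bc + bd) = 0 := by
          rw [add_comm ab ac, w2, w5, w7]
          have : ∀ x y z : ZMod 2, (x + y) + (x + z) + (y + z) = 0 := by decide
          exact this _ _ _
        have q4 := hA _ _ _ _ q1 q2 q3
        have : ∀ x y : ZMod 2, x + y = 0 → x = y := by decide
        exact this _ _ q4
      rw [fin _ _ _ _ _ _ _ _ _ u1 u2 u3 u5 u7]
      exact h0
  have hM : ∃ e ∈ E, fc ε Wp i j e ≠ 0 := by
    obtain ⟨e, he, h1, -⟩ := h.full I hp hm 1 0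
    exact ⟨e, he, by rw [h1]; exact one_ne_zero⟩
  -- from `(i, j)` to `(k, l)`
  have row : ∀ a b c, Gp a b → Gp a c → (∃ e ∈ E, fc ε Wp a b e ≠ 0) → ∃ e ∈ E, fc ε Wp a c e ≠ 0 := by
    intro a b c hab hac h1
    by_cases hbc : b = c
    · rwa [← hbc]
    · exact step a b c hab hac ⟨hab.2.1, hac.2.1, hbc⟩ h1
  by_cases hki : k = i
  · subst hki
    exact row k j l hp hkl hM
  · have hik : Gp i k := ⟨hp.1, hkl.1, fun h0 => hki h0.symm⟩
    exact row k i l hik.symm hkl (sym i k hik (row i j k hp hik hM))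

end Sit

end Cfsg.Agent.Omega.NO3S.SN2.PathW
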