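import Cfsg.Agent.Omega.NO3S.SN2.Path.Off

/-!
# SN.Two, THEOREM PATH (helper179 #20810 + helper347 #21224)

* `exists_tv` : if the lines on `z` are connected (`C_G(z) ≤ M0`) and one `W_ij` lies in `U_{z_1}`, then some
  `τ ∈ O₂(C_G(z_1))` acts on `U_z` as a transvection `≠ 1` whose centre is a point `≠ z` or a pair of a line on `z`
  centralised by `τ`.
-/

set_option autoImplicit false
set_option linter.unusedSectionVars false

namespace Cfsg.Agent.Omega.NO3S.SN2.PathW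

open Subgroup Pointwise Cfsg.Agent.Omega.S5.Def Cfsg.Agent.Omega.NSix.Base Cfsg.Agent.Omega.NSix.Basic
open Cfsg.Agent.Omega.NO3S.SN

universe u

variable {G : Type u} [Group G]

/-- **THEOREM PATH.** -/
theorem exists_tv [Finite G] {n : ℕ} [NeZero n] {V P : Subgroup G} {ε : (Fin n → ZMod 2) → G}
    (B : SN.Base V P ε) {Wp : Fin n → Fin n → Subgroup G} (h : Sit V (U V (pt ε 0) (pt ε 0)) ε Wp)
    (conn : Cn (pt ε 0) ≤ M0 V ε) {i j : Fin n} (hp : Gp i j) (h1 : Wp i j ≤ U V (pt ε 0) (pt ε 1)) :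
    ∃ τ ∈ Qn (pt ε 1), τ ∉ centralizer (U V (pt ε 0) (pt ε 0) : Set G) ∧
      ∃ c ∈ U V (pt ε 0) (pt ε 0), (∀ w ∈ U V (pt ε 0) (pt ε 0), τ * w * τ⁻¹ = w ∨ τ * w * τ⁻¹ = w * c) ∧
        ∃ m ∈ Cn (pt ε 0), (∀ v ∈ V, τ * (m * v * m⁻¹) = (m * v * m⁻¹) * τ) ∧
          ((∃ k, k ≠ 0 ∧ c = m * pt ε k * m⁻¹) ∨ ∃ k l, Gp k l ∧ c = m * rr ε k l * m⁻¹) := by
  set W := U V (pt ε 0) (pt ε 0) with hW
  -- an element of `C_G(z)` moving no `V^m` centralises `U_z`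
  have hU : ∀ x : G, (∀ m ∈ M0 V ε, ∀ v ∈ V, x * (m * v * m⁻¹) = (m * v * m⁻¹) * x) →
      x ∈ centralizer (W : Set G) := by
    intro x hx
    have h2 : W ≤ centralizer ({x} : Set G) := by
      rw [hW]
      refine U_le fun g hg => ?_
      rintro _ ⟨v, hv, rfl⟩
      have h3 := hx g (conn (mem_Cn'.2 hg)) v hv
      rw [mem_centralizer_singleton_iff]
      exact h3.symm
    rw [mem_centralizer_iff]
    intro w hw
    exact mem_centralizer_singleton_iff.1 (h2 hw)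
  rcases exists_E B with ⟨E, hE1, hEne, I⟩ | ⟨τ, hτ, hne, c, hc, htv⟩
  · exfalso
    apply hEne
    have hfix : ∀ w ∈ Wp i j, ∀ e ∈ E, e * w = w * e := by
      intro w hw e he
      exact (mem_centralizer_iff.1 (B.Qn_le _ (hE1 he)) w (h1 hw)).symm
    intro e he
    refine hU e fun m hm v hv => ?_
    exact h.all_V I hp hfix m hm v hv e he
  · refine ⟨τ, hτ, hne, c, hc, htv, ?_⟩
    have hτV : ∀ v ∈ V, τ * v = v * τ := fun v hv =>
      (mem_centralizer_iff.1 (B.Qn_le _ hτ) v (B.V_le_U 1 hv)).symm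
    have hmov : ∃ m ∈ M0 V ε, ∃ v ∈ V, τ * (m * v * m⁻¹) ≠ (m * v * m⁻¹) * τ := by
      by_contra hcon
      push Not at hcon
      exact hne (hU τ hcon)
    obtain ⟨m, hm, h2, h3⟩ := h.centre hτV htv hmov
    exact ⟨m, h.M0_le hm, h2, h3⟩

end Cfsg.Agent.Omega.NO3S.SN2.PathW
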