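import Cfsg.Agent.Omega.NO3S.SN2.Path.Star

/-!
# SN.Two, THEOREM PATH: the class of `u_ik u_jk` modulo `W_ij` (helper347 #21224 (1)-(4))

* `Sit.key` : `[u_ik u_jk, XX ε i j] ≤ W_ij` if `E` moves `W_ij`;
* `Sit.ker` : `fc i j q = fc j i q = 0` implies `fc i k q = fc j k q`.
-/

set_option autoImplicit false
set_option linter.unusedSectionVars false

namespace Cfsg.Agent.Omega.NO3S.SN2.PathW

open Subgroup Pointwise Cfsg.Agent.Omega.S5.Def Cfsg.Agent.Omega.NSix.Base Cfsg.Agent.Omega.NSix.Basic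

universe u

variable {G : Type u} [Group G] {n : ℕ}

namespace Sit

variable [NeZero n] {V W : Subgroup G} {ε : (Fin n → ZMod 2) → G} {Wp : Fin n → Fin n → Subgroup G}
  (h : Sit V W ε Wp) {E : Subgroup G}
include h

theorem zz_nD {i j : Fin n} (hp : Gp i j) : (Pi.single i 1 : Fin n → ZMod 2) i ≠
    (Pi.single i 1 : Fin n → ZMod 2) j := by
  rw [Pi.single_eq_same, Pi.single_eq_of_ne hp.2.2.symm]
  exact one_ne_zero

theorem norm_of_zz [Finite G] {i j : Fin n} (hp : Gp i j) {x : G} (hx : x ∈ XX ε i j)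
    (hV : x * zz ε i * x⁻¹ ∈ V) : x ∈ normalizer (V : Set G) :=
  h.norm_of hx (h.zz_nD hp) hV

/-- Products in `W`. -/
theorem swap4 {a b c d : G} (_ : a ∈ W) (hb : b ∈ W) (hc : c ∈ W) (_ : d ∈ W) :
    a * b * (c * d) = (a * c) * (b * d) := by
  have h1 := h.comm b hb c hc
  calc a * b * (c * d) = a * (b * c) * d := by group
    _ = a * (c * b) * d := by rw [h1]
    _ = _ := by group

section key

variable {i j k : Fin n}

/-- `N_{XX}(V)` fixes the class. -/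
theorem key_norm (hp : Gp i j) (hik : Gp i k) (hjk : Gp j k) {u v : G} (hu : u ∈ Wp i k) (huV : u ∉ V)
    (hv : v ∈ Wp j k) (hvV : v ∉ V) {x : G} (hx : x ∈ XX ε i j) (hxV : x ∈ normalizer (V : Set G)) :
    x * (u * v) * x⁻¹ * (u * v)⁻¹ ∈ Wp i j := by
  obtain ⟨σ, hσ⟩ := h.ev.perm x hxV
  obtain ⟨h1, h2⟩ := h.acts_XX hp hx hσ
  have hxz := h.XX_le hp hx
  have hk : σ k = k := h1 k hik.2.2.symm hjk.2.2.symm
  have hu' := h.conj x hxz σ hσ i k hik u hu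
  have hv' := h.conj x hxz σ hσ j k hjk v hv
  rw [hk] at hu' hv'
  have hnV : ∀ w, w ∉ V → x * w * x⁻¹ ∉ V := fun w hw h0 => hw ((mem_normalizer_iff.1 hxV w).2 h0)
  have huW := h.le i k hik hu
  have hvW := h.le j k hjk hv
  have hu'W := h.nW x hxz u huW
  have hv'W := h.nW x hxz v hvW
  refine h.VW i j hp ?_
  have e0 : x * (u * v) * x⁻¹ * (u * v)⁻¹ = ((x * u * x⁻¹) * (x * v * x⁻¹)) * (u * v) := by
    rw [h.inv (mul_mem huW hvW)]
    group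
  rw [e0]
  rcases h2 with ⟨hi, hj⟩ | ⟨hi, hj⟩
  · rw [hi] at hu'
    rw [hj] at hv'
    rw [h.swap4 hu'W hv'W huW hvW]
    exact mul_mem (h.two i k hik _ hu' _ hu (hnV u huV) huV) (h.two j k hjk _ hv' _ hv (hnV v hvV) hvV)
  · rw [hi] at hu'
    rw [hj] at hv'
    rw [h.comm u huW v hvW, h.swap4 hu'W hv'W hvW huW]
    exact mul_mem (h.two j k hjk _ hu' _ hv (hnV u huV) hvV) (h.two i k hik _ hv' _ hu (hnV v hvV) huV)

theorem key_mul (hp : Gp i j) {s : G} {x y : G} (hx : x ∈ XX ε i j)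
    (h1 : x * s * x⁻¹ * s⁻¹ ∈ Wp i j) (h2 : y * s * y⁻¹ * s⁻¹ ∈ Wp i j) :
    (x * y) * s * (x * y)⁻¹ * s⁻¹ ∈ Wp i j := by
  have e : (x * y) * s * (x * y)⁻¹ * s⁻¹ = (x * (y * s * y⁻¹ * s⁻¹) * x⁻¹) * (x * s * x⁻¹ * s⁻¹) := by group
  rw [e]
  exact mul_mem (h.nor i j hp x hx _ h2) h1

theorem key_inv (hp : Gp i j) {s : G} {x : G} (hx : x ∈ XX ε i j)
    (h1 : x * s * x⁻¹ * s⁻¹ ∈ Wp i j) : x⁻¹ * s * x⁻¹⁻¹ * s⁻¹ ∈ Wp i j := by
  have e : x⁻¹ * s * x⁻¹⁻¹ * s⁻¹ = x⁻¹ * (x * s * x⁻¹ * s⁻¹)⁻¹ * x⁻¹⁻¹ := by group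
  rw [e]
  exact h.nor i j hp _ (inv_mem hx) _ (inv_mem h1)

/-- (1), (2) : `r⁻¹ e r` fixes the class. -/
theorem key_two [Finite G] (I : Inp V W E) (hp : Gp i j) (hik : Gp i k) (hjk : Gp j k)
    (hm : ∃ e ∈ E, fc ε Wp i j e ≠ 0 ∨ fc ε Wp j i e ≠ 0)
    {u v : G} (hu : u ∈ Wp i k) (huV : u ∉ V) (hv : v ∈ Wp j k) (hvV : v ∉ V) {r : G} (hr : r ∈ XX ε i j)
    (hrV : r ∉ normalizer (V : Set G)) {e : G} (he : e ∈ E) :
    (r⁻¹ * e * r) * (u * v) * (r⁻¹ * e * r)⁻¹ * (u * v)⁻¹ ∈ Wp i j := by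
  obtain ⟨e₀, he₀, hf1, hf2⟩ := h.full I hp hm 1 1
  have he₀X : e₀ ∈ XX ε i j := h.cen_le_XX i j (I.cen he₀)
  have heX : e ∈ XX ε i j := h.cen_le_XX i j (I.cen he)
  have hrz := h.XX_le hp hr
  -- `w = r z_i r⁻¹`
  have hzV : zz ε i ∈ V := zz_mem h.ev i
  have hwW : r * zz ε i * r⁻¹ ∈ Wp i j := h.nor i j hp r hr _ (h.VW i j hp hzV)
  have hwV : r * zz ε i * r⁻¹ ∉ V := fun h0 => hrV (h.norm_of_zz hp hr h0)
  have hspec := h.fc_spec hp (I.cen he₀) hwW hwV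
  rw [hf1, hf2, tt_one_one h.ev] at hspec
  -- `g = r⁻¹ e₀ r` is the transposition
  set g := r⁻¹ * e₀ * r with hg
  have hgX : g ∈ XX ε i j := mul_mem (mul_mem (inv_mem hr) he₀X) hr
  have hrr : r⁻¹ * rr ε i j * r = rr ε i j := by
    have h1 : r * rr ε i j = rr ε i j * r := by
      have h2 : rr ε i j = ε (Pi.single i 1 + Pi.single j 1) := (h.ev.add _ _).symm
      rw [h2]
      refine mem_XX.1 hr _ ?_
      rw [Pi.add_apply, Pi.add_apply, Pi.single_eq_same, Pi.single_eq_same,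
        Pi.single_eq_of_ne hp.2.2, Pi.single_eq_of_ne hp.2.2.symm, zero_add, add_zero]
    calc r⁻¹ * rr ε i j * r = r⁻¹ * (rr ε i j * r) := by group
      _ = r⁻¹ * (r * rr ε i j) := by rw [h1]
      _ = rr ε i j := by group
  have hgz : g * zz ε i * g⁻¹ = zz ε j := by
    calc g * zz ε i * g⁻¹ = r⁻¹ * (e₀ * (r * zz ε i * r⁻¹) * e₀⁻¹) * r := by rw [hg]; group
      _ = r⁻¹ * (r * zz ε i * r⁻¹ * rr ε i j) * r := by rw [hspec]
      _ = zz ε i * (r⁻¹ * rr ε i j * r) := by group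
      _ = zz ε i * rr ε i j := by rw [hrr]
      _ = zz ε j := by
          unfold rr
          rw [← mul_assoc, zz_sq h.ev, one_mul]
  have hga := h.acts_swap_of hgX hgz
  have hgC := h.XX_le hp hgX
  have hgN : g ∈ normalizer (V : Set G) := acts_norm h.ev hga
  have hgu := h.conj g hgC _ hga i k hik u hu
  rw [Equiv.swap_apply_left, Equiv.swap_apply_of_ne_of_ne hik.2.2.symm hjk.2.2.symm] at hgu
  have hguV : g * u * g⁻¹ ∉ V := fun h0 => huV ((mem_normalizer_iff.1 hgN u).2 h0)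
  have hcV : v * (g * u * g⁻¹) ∈ V := h.two j k hjk v hv _ hgu hvV hguV
  set c := v * (g * u * g⁻¹) with hc
  have huW := h.le i k hik hu
  have hvW := h.le j k hjk hv
  have hguW := h.le j k hjk hgu
  have hcW := h.VleW hcV
  have hsW : u * v ∈ W := mul_mem huW hvW
  -- the commutator
  have hruW : r * u * r⁻¹ ∈ W := h.nW r hrz u huW
  have hq := I.quad _ hruW e₀ he₀ e he
  have hy : e₀ * (r * u * r⁻¹) * e₀⁻¹ * (r * u * r⁻¹)⁻¹ = r * (u * v * c) * r⁻¹ := by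
    have e1 : e₀ * (r * u * r⁻¹) * e₀⁻¹ * (r * u * r⁻¹)⁻¹ = r * ((g * u * g⁻¹) * u⁻¹) * r⁻¹ := by
      rw [hg]; group
    have e2 : (g * u * g⁻¹) * u⁻¹ = u * v * c := by
      calc (g * u * g⁻¹) * u⁻¹ = (g * u * g⁻¹) * u := by rw [h.inv huW]
        _ = u * (g * u * g⁻¹) := h.comm _ hguW u huW
        _ = u * (v * v) * (g * u * g⁻¹) := by rw [h.sq v hvW, mul_one]
        _ = u * v * c := by rw [hc]; group
    rw [e1, e2]
  rw [hy] at hq
  set q := r⁻¹ * e * r with hqd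
  have hqX : q ∈ XX ε i j := mul_mem (mul_mem (inv_mem hr) heX) hr
  have h3 : q * (u * v * c) * q⁻¹ = u * v * c := by
    calc q * (u * v * c) * q⁻¹ = r⁻¹ * (e * (r * (u * v * c) * r⁻¹)) * e⁻¹ * r := by rw [hqd]; group
      _ = r⁻¹ * (r * (u * v * c) * r⁻¹ * e) * e⁻¹ * r := by rw [hq]
      _ = u * v * c := by group
  have h4 : q * (u * v) * q⁻¹ * (u * v)⁻¹ = c * (q * c * q⁻¹)⁻¹ := by
    have h5 : q * (u * v) * q⁻¹ = u * v * c * (q * c * q⁻¹)⁻¹ := by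
      rw [eq_mul_inv_iff_mul_eq]
      calc q * (u * v) * q⁻¹ * (q * c * q⁻¹) = q * (u * v * c) * q⁻¹ := by group
        _ = _ := h3
    rw [h5]
    have hqc : q * c * q⁻¹ ∈ W := h.nW q (h.XX_le hp hqX) c hcW
    rw [mul_assoc (u * v) c, h.comm (u * v) hsW _ (mul_mem hcW (inv_mem hqc)), mul_inv_cancel_right]
  rw [h4]
  exact mul_mem (h.VW i j hp hcV) (inv_mem (h.nor i j hp q hqX c (h.VW i j hp hcV)))

/-- (3) : the class of `u_ik u_jk` modulo `W_ij` is fixed by `XX ε i j`. -/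
theorem key [Finite G] (I : Inp V W E) (hp : Gp i j) (hik : Gp i k) (hjk : Gp j k)
    (hm : ∃ e ∈ E, fc ε Wp i j e ≠ 0 ∨ fc ε Wp j i e ≠ 0)
    {u v : G} (hu : u ∈ Wp i k) (huV : u ∉ V) (hv : v ∈ Wp j k) (hvV : v ∉ V) {x : G}
    (hx : x ∈ XX ε i j) : x * (u * v) * x⁻¹ * (u * v)⁻¹ ∈ Wp i j := by
  obtain ⟨r, hr, hrV⟩ := h.mov i j hp
  obtain ⟨e, he, hf1, hf2⟩ := h.full I hp hm 1 0
  have heX : e ∈ XX ε i j := h.cen_le_XX i j (I.cen he)
  have hzV : zz ε i ∈ V := zz_mem h.ev i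
  have hzz := h.sq _ (h.VleW hzV)
  set q := r⁻¹ * e * r with hq
  have hqX : q ∈ XX ε i j := mul_mem (mul_mem (inv_mem hr) heX) hr
  have hqK : q * (u * v) * q⁻¹ * (u * v)⁻¹ ∈ Wp i j :=
    h.key_two I hp hik hjk hm hu huV hv hvV hr hrV he
  -- `q` moves `V`
  have hqV : q * zz ε i * q⁻¹ ∉ V := by
    intro h0
    have hw1 : r * zz ε i * r⁻¹ ∈ Wp i j := h.nor i j hp r hr _ (h.VW i j hp hzV)
    have hw2 : r * zz ε i * r⁻¹ ∉ V := fun h0 => hrV (h.norm_of_zz hp hr h0)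
    have h1 := h.fc_spec hp (I.cen he) hw1 hw2
    rw [hf1, hf2, tt_one_zero] at h1
    have h2 : q * zz ε i * q⁻¹ = zz ε i * (r⁻¹ * zz ε i * r⁻¹⁻¹) := by
      calc q * zz ε i * q⁻¹ = r⁻¹ * (e * (r * zz ε i * r⁻¹) * e⁻¹) * r := by rw [hq]; group
        _ = r⁻¹ * (r * zz ε i * r⁻¹ * zz ε i) * r := by rw [h1]
        _ = _ := by group
    rw [h2] at h0
    have h3 : r⁻¹ * zz ε i * r⁻¹⁻¹ ∈ V := (mul_mem_cancel_left hzV).1 h0
    exact hrV ((inv_mem_iff).1 (h.norm_of_zz hp (inv_mem hr) h3))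
  have hqW : q * zz ε i * q⁻¹ ∈ Wp i j := h.nor i j hp q hqX _ (h.VW i j hp hzV)
  -- classes modulo the normaliser
  have fin : ∀ p ∈ XX ε i j, p * (u * v) * p⁻¹ * (u * v)⁻¹ ∈ Wp i j → ∀ y : Fin n → ZMod 2, y i = y j →
      x * zz ε i * x⁻¹ * (p * zz ε i * p⁻¹) = ε y → x * (u * v) * x⁻¹ * (u * v)⁻¹ ∈ Wp i j := by
    intro p hpX hpK y hy he
    have h1 : (p⁻¹ * x) * zz ε i * (p⁻¹ * x)⁻¹ ∈ V := by
      have h2 : x * zz ε i * x⁻¹ = ε y * (p * zz ε i * p⁻¹)⁻¹ := by rw [← he, mul_inv_cancel_right]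
      have h3 := mem_XX.1 hpX y hy
      have h4 : (p⁻¹ * x) * zz ε i * (p⁻¹ * x)⁻¹ = ε y * (zz ε i)⁻¹ := by
        calc (p⁻¹ * x) * zz ε i * (p⁻¹ * x)⁻¹ = p⁻¹ * (x * zz ε i * x⁻¹) * p := by group
          _ = p⁻¹ * (ε y * (p * zz ε i * p⁻¹)⁻¹) * p := by rw [h2]
          _ = p⁻¹ * (ε y * p) * (zz ε i)⁻¹ := by group
          _ = p⁻¹ * (p * ε y) * (zz ε i)⁻¹ := by rw [h3]
          _ = _ := by group
      rw [h4]
      exact mul_mem (h.ev.mem y) (inv_mem hzV)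
    have hX : p⁻¹ * x ∈ XX ε i j := mul_mem (inv_mem hpX) hx
    have h5 := h.key_norm hp hik hjk hu huV hv hvV hX (h.norm_of_zz hp hX h1)
    have h6 := h.key_mul hp hpX hpK h5
    have h7 : p * (p⁻¹ * x) = x := by group
    rwa [h7] at h6
  by_cases hxV : x * zz ε i * x⁻¹ ∈ V
  · exact h.key_norm hp hik hjk hu huV hv hvV hx (h.norm_of_zz hp hx hxV)
  · have hxW : x * zz ε i * x⁻¹ ∈ Wp i j := h.nor i j hp x hx _ (h.VW i j hp hzV)
    obtain ⟨y, hy⟩ := h.ev.surj _ (h.two i j hp _ hxW _ hqW hxV hqV)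
    by_cases hyij : y i = y j
    · exact fin q hqX hqK y hyij hy.symm
    · have heK : e * (u * v) * e⁻¹ * (u * v)⁻¹ ∈ Wp i j := by
        refine h.key_norm hp hik hjk hu huV hv hvV heX ?_
        exact acts_norm h.ev (h.ev.acts_one_iff.2 (I.cen he))
      refine fin (e * q) (mul_mem heX hqX) (h.key_mul hp heX heK hqK) (y + Pi.single i 1) ?_ ?_
      · rw [Pi.add_apply, Pi.add_apply, Pi.single_eq_same, Pi.single_eq_of_ne hp.2.2.symm, add_zero]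
        have hd : ∀ a b : ZMod 2, a ≠ b → a + 1 = b := by decide
        exact hd _ _ hyij
      · have h1 := h.fc_spec hp (I.cen he) hqW hqV
        rw [hf1, hf2, tt_one_zero] at h1
        calc x * zz ε i * x⁻¹ * (e * q * zz ε i * (e * q)⁻¹) =
            x * zz ε i * x⁻¹ * (e * (q * zz ε i * q⁻¹) * e⁻¹) := by group
          _ = x * zz ε i * x⁻¹ * (q * zz ε i * q⁻¹ * zz ε i) := by rw [h1]
          _ = (x * zz ε i * x⁻¹ * (q * zz ε i * q⁻¹)) * zz ε i := by group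
          _ = ε y * zz ε i := by rw [hy]
          _ = _ := by unfold zz; rw [← h.ev.add]

/-- (4) : `fc i k = fc j k` on the kernel of `fc i j`, `fc j i`. -/
theorem ker [Finite G] (I : Inp V W E) (hp : Gp i j) (hik : Gp i k) (hjk : Gp j k)
    (hm : ∃ e ∈ E, fc ε Wp i j e ≠ 0 ∨ fc ε Wp j i e ≠ 0) {q : G} (hq : q ∈ centralizer (V : Set G))
    (h1 : fc ε Wp i j q = 0) (h2 : fc ε Wp j i q = 0) : fc ε Wp i k q = fc ε Wp j k q := by
  by_contra hne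
  obtain ⟨u, hu, huV⟩ := h.nV i k hik
  obtain ⟨v, hv, hvV⟩ := h.nV j k hjk
  obtain ⟨r, hr, hrV⟩ := h.mov i j hp
  have hrz := h.XX_le hp hr
  have huW := h.le i k hik hu
  have hvW := h.le j k hjk hv
  have hsW : u * v ∈ W := mul_mem huW hvW
  have hkey := h.key I hp hik hjk hm hu huV hv hvV hr
  set s := u * v with hs
  set ω := r * s * r⁻¹ * s⁻¹ with hω
  -- `q` centralises `W_ij`
  have hqW : ∀ w ∈ Wp i j, q * w = w * q := by
    intro w hw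
    by_cases hwV : w ∈ V
    · exact h.comm_of hq hwV
    · have h3 := h.fc_spec hp hq hw hwV
      rw [h1, h2, tt_zero h.ev, mul_one] at h3
      exact mul_inv_eq_iff_eq_mul.1 h3
  -- `q' = r⁻¹ q r` centralises `V`
  have hq' : r⁻¹ * q * r ∈ centralizer (V : Set G) := by
    rw [mem_centralizer_iff]
    intro w hw
    have h3 := hqW _ (h.nor i j hp r hr w (h.VW i j hp hw))
    calc w * (r⁻¹ * q * r) = r⁻¹ * ((r * w * r⁻¹) * q) * r := by group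
      _ = r⁻¹ * (q * (r * w * r⁻¹)) * r := by rw [h3]
      _ = r⁻¹ * q * r * w := by group
  -- brackets of `s`
  have hbr : ∀ p ∈ centralizer (V : Set G), p * s * p⁻¹ =
      s * (tt ε i k (fc ε Wp i k p) (fc ε Wp k i p) * tt ε j k (fc ε Wp j k p) (fc ε Wp k j p)) := by
    intro p hpc
    have e1 := h.fc_spec hik hpc hu huV
    have e2 := h.fc_spec hjk hpc hv hvV
    calc p * s * p⁻¹ = (p * u * p⁻¹) * (p * v * p⁻¹) := by rw [hs]; group
      _ = u * tt ε i k (fc ε Wp i k p) (fc ε Wp k i p) *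
          (v * tt ε j k (fc ε Wp j k p) (fc ε Wp k j p)) := by rw [e1, e2]
      _ = _ := h.swap4 huW (h.VleW (tt_mem h.ev _ _ _ _)) hvW (h.VleW (tt_mem h.ev _ _ _ _))
  set t := tt ε i k (fc ε Wp i k q) (fc ε Wp k i q) * tt ε j k (fc ε Wp j k q) (fc ε Wp k j q) with ht
  set t' := tt ε i k (fc ε Wp i k (r⁻¹ * q * r)) (fc ε Wp k i (r⁻¹ * q * r)) *
    tt ε j k (fc ε Wp j k (r⁻¹ * q * r)) (fc ε Wp k j (r⁻¹ * q * r)) with ht'
  have ht'V : t' ∈ V := mul_mem (tt_mem h.ev _ _ _ _) (tt_mem h.ev _ _ _ _)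
  have htV : t ∈ V := mul_mem (tt_mem h.ev _ _ _ _) (tt_mem h.ev _ _ _ _)
  have hωW := h.le i j hp hkey
  have hrs : r * s * r⁻¹ = ω * s := by rw [hω, inv_mul_cancel_right]
  -- `t = r t' r⁻¹`
  have heq : r * t' * r⁻¹ = t := by
    have e1 : q * (r * s * r⁻¹) * q⁻¹ = (r * s * r⁻¹) * (r * t' * r⁻¹) := by
      have e2 := hbr _ hq'
      calc q * (r * s * r⁻¹) * q⁻¹ = r * ((r⁻¹ * q * r) * s * (r⁻¹ * q * r)⁻¹) * r⁻¹ := by group
        _ = r * (s * t') * r⁻¹ := by rw [e2]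
        _ = _ := by group
    have e3 : q * (ω * s) * q⁻¹ = (ω * s) * t := by
      have e4 := hqW _ hkey
      have e5 := hbr q hq
      calc q * (ω * s) * q⁻¹ = (q * ω) * s * q⁻¹ := by group
        _ = (ω * q) * s * q⁻¹ := by rw [e4]
        _ = ω * (q * s * q⁻¹) := by group
        _ = ω * (s * t) := by rw [e5]
        _ = _ := by group
    rw [hrs] at e1
    exact mul_left_cancel (e1.symm.trans e3)
  apply hrV
  -- coordinates of `t`
  obtain ⟨y, hy, hyt⟩ : ∃ y : Fin n → ZMod 2, y i ≠ y j ∧ ε y = t := by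
    refine ⟨(fc ε Wp i k q • Pi.single i 1 + fc ε Wp k i q • Pi.single k 1) +
      (fc ε Wp j k q • Pi.single j 1 + fc ε Wp k j q • Pi.single k 1), ?_, ?_⟩
    · simp only [Pi.add_apply, Pi.smul_apply, smul_eq_mul]
      rw [Pi.single_eq_same, Pi.single_eq_same, Pi.single_eq_of_ne hp.2.2, Pi.single_eq_of_ne hp.2.2.symm,
        Pi.single_eq_of_ne hik.2.2, Pi.single_eq_of_ne hjk.2.2]
      simpa using hne
    · rw [h.ev.add]
      rfl
  refine (inv_mem_iff).1 (h.norm_of (inv_mem hr) hy ?_)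
  rw [hyt, ← heq]
  have e6 : r⁻¹ * (r * t' * r⁻¹) * r⁻¹⁻¹ = t' := by group
  rw [e6]
  exact ht'V

end key

end Sit

end Cfsg.Agent.Omega.NO3S.SN2.PathW
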