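import Cfsg.Agent.Omega.NO3S.SN2.Path.Walk
import Cfsg.Agent.Omega.NO3S.SN.Geo

/-!
# SN.Two, THEOREM PATH: the choice of the minimal offender ((h4) of helper179 #20810, helper447 #21075 (F2), (F6))

* `exists_min` : `B` an elementary abelian offender on the elementary abelian group `W`, `[W, B] ≤ B` (hence quadratic):
  there is a subgroup `E ≤ B`, not centralising `W`, with `|[w, E]| ≠ 2` for all `w ∈ W`, or `B` contains a
  transvection on `W`;
* `Base.exists_E` : the same for `W = U_z` with `E`, `τ` in `O₂(C_G(z_1))`.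
-/

set_option autoImplicit false
set_option linter.unusedSectionVars false

namespace Cfsg.Agent.Omega.NO3S.SN2.PathW

open Subgroup Pointwise Cfsg.Agent.Omega.S5.Def Cfsg.Agent.Omega.NSix.Base Cfsg.Agent.Omega.NSix.Basic

universe u

variable {G : Type u} [Group G]

theorem two_mul_card_le [Finite G] {A A' : Subgroup G} (h : A < A') : 2 * Nat.card A ≤ Nat.card A' := by
  obtain ⟨k, hk⟩ := Subgroup.card_dvd_of_le h.le
  have h1 : 0 < Nat.card A' := Nat.card_pos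
  have h2 : k ≠ 0 := by
    rintro rfl
    rw [mul_zero] at hk
    omega
  have h3 : k ≠ 1 := by
    rintro rfl
    rw [mul_one] at hk
    exact h.ne (Subgroup.eq_of_le_of_card_ge h.le hk.le)
  rw [hk, mul_comm 2]
  exact Nat.mul_le_mul_left _ (by omega)

theorem exists_min [Finite G] {W B : Subgroup G} (hW : ∀ x ∈ W, ∀ y ∈ W, x * y = y * x)
    (hB : ∀ x ∈ B, ∀ y ∈ B, x * y = y * x) (hq : ∀ w ∈ W, ∀ b ∈ B, b * w * b⁻¹ * w⁻¹ ∈ B)
    (hn : ∀ w ∈ W, ∀ b ∈ B, b * w * b⁻¹ ∈ W) (hne : ¬ B ≤ centralizer (W : Set G))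
    (hoff : Nat.card W * Nat.card (B ⊓ centralizer (W : Set G) : Subgroup G) ≤
      Nat.card B * Nat.card (W ⊓ centralizer (B : Set G) : Subgroup G)) :
    (∃ E ≤ B, ¬ E ≤ centralizer (W : Set G) ∧
      (∀ w ∈ W, ∀ e ∈ E, ∀ e' ∈ E, e' * (e * w * e⁻¹ * w⁻¹) = (e * w * e⁻¹ * w⁻¹) * e') ∧
      (∀ w ∈ W, ∀ c : G, (∀ e ∈ E, e * w * e⁻¹ = w ∨ e * w * e⁻¹ = w * c) → ∀ e ∈ E, e * w = w * e)) ∨
    (∃ τ ∈ B, τ ∉ centralizer (W : Set G) ∧ ∃ c ∈ W, ∀ w ∈ W, τ * w * τ⁻¹ = w ∨ τ * w * τ⁻¹ = w * c) := by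
  classical
  set C : Subgroup G := B ⊓ centralizer (W : Set G) with hC
  let f : Subgroup G → ℕ := fun F => Nat.card F * Nat.card (W ⊓ centralizer (F : Set G) : Subgroup G)
  let 𝓕 : Set (Subgroup G) := {F | C ≤ F ∧ F ≤ B ∧ F ≠ C}
  have hBF : B ∈ 𝓕 := ⟨inf_le_left, le_rfl, fun h0 => hne (h0 ▸ inf_le_right)⟩
  obtain ⟨F₀, hF₀, hmax⟩ := Set.exists_max_image 𝓕 f (Set.toFinite _) ⟨B, hBF⟩
  let 𝓖 : Set (Subgroup G) := {F | F ∈ 𝓕 ∧ f F = f F₀}
  obtain ⟨E, hE, hmin⟩ := Set.exists_min_image 𝓖 (fun F => Nat.card F) (Set.toFinite _) ⟨F₀, hF₀, rfl⟩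
  have hEB : E ≤ B := hE.1.2.1
  have hCE : C ≤ E := hE.1.1
  have hEne : ¬ E ≤ centralizer (W : Set G) := fun h0 => hE.1.2.2 (le_antisymm (le_inf hEB h0) hCE)
  by_cases hfour : ∀ w ∈ W, ∀ c : G, (∀ e ∈ E, e * w * e⁻¹ = w ∨ e * w * e⁻¹ = w * c) → ∀ e ∈ E, e * w = w * e
  · left
    refine ⟨E, hEB, hEne, ?_, hfour⟩
    intro w hw e he e' he'
    exact hB e' (hEB he') _ (hq w hw e (hEB he))
  right
  push Not at hfour
  obtain ⟨w, hw, c, hc, e₀, he₀, hne₀⟩ := hfour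
  have hc₀ : e₀ * w * e₀⁻¹ = w * c := by
    rcases hc e₀ he₀ with h1 | h1
    · exact absurd (mul_inv_eq_iff_eq_mul.1 h1) hne₀
    · exact h1
  have hcW : c ∈ W := by
    have h1 := hn w hw e₀ (hEB he₀)
    rw [hc₀] at h1
    exact (mul_mem_cancel_left hw).1 h1
  set B' : Subgroup G := E ⊓ centralizer ({w} : Set G) with hB'
  have hmB' : ∀ e, e ∈ B' ↔ e ∈ E ∧ e * w = w * e := by
    intro e
    rw [hB', mem_inf, mem_centralizer_singleton_iff]
  -- (i)
  have hcard1 : Nat.card E ≤ 2 * Nat.card B' := by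
    have hsub : (E : Set G) ⊆ (B' : Set G) ∪ (fun x => e₀ * x) '' (B' : Set G) := by
      intro e he
      rcases hc e he with h1 | h1
      · left
        exact (hmB' e).2 ⟨he, mul_inv_eq_iff_eq_mul.1 h1⟩
      · right
        refine ⟨e₀⁻¹ * e, (hmB' _).2 ⟨mul_mem (inv_mem he₀) he, ?_⟩, by simp⟩
        have h2 : e * w * e⁻¹ = e₀ * w * e₀⁻¹ := h1.trans hc₀.symm
        calc e₀⁻¹ * e * w = e₀⁻¹ * (e * w * e⁻¹) * e := by group
          _ = e₀⁻¹ * (e₀ * w * e₀⁻¹) * e := by rw [h2]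
          _ = w * (e₀⁻¹ * e) := by group
    have h1 := Set.ncard_le_ncard hsub (Set.toFinite _)
    have h2 := Set.ncard_union_le (B' : Set G) ((fun x => e₀ * x) '' (B' : Set G))
    have h3 := Set.ncard_image_le (f := fun x => e₀ * x) (Set.toFinite (B' : Set G))
    have h4 : (E : Set G).ncard = Nat.card E := (Nat.card_coe_set_eq _).symm
    have h5 : (B' : Set G).ncard = Nat.card B' := (Nat.card_coe_set_eq _).symm
    rw [h4] at h1
    rw [h5] at h2 h3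
    omega
  have hB'E : B' ≤ E := inf_le_left
  have he₀B' : e₀ ∉ B' := fun h0 => hne₀ ((hmB' e₀).1 h0).2
  have hB'lt : B' < E := lt_of_le_of_ne hB'E fun h0 => he₀B' (h0 ▸ he₀)
  -- (ii)
  have hcard2 : 2 * Nat.card (W ⊓ centralizer (E : Set G) : Subgroup G) ≤
      Nat.card (W ⊓ centralizer (B' : Set G) : Subgroup G) := by
    refine two_mul_card_le (lt_of_le_of_ne (inf_le_inf_left W (centralizer_le hB'E)) fun h0 => ?_)
    have h1 : w ∈ W ⊓ centralizer (B' : Set G) := by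
      refine mem_inf.2 ⟨hw, mem_centralizer_iff.2 fun b hb => ((hmB' b).1 hb).2⟩
    rw [← h0] at h1
    exact hne₀ (mem_centralizer_iff.1 (mem_inf.1 h1).2 e₀ he₀)
  have hCB' : C ≤ B' := by
    intro x hx
    exact (hmB' x).2 ⟨hCE hx, (mem_centralizer_iff.1 (mem_inf.1 hx).2 w hw).symm⟩
  -- `B' = C`
  have hB'C : B' = C := by
    by_contra hne'
    have h1 : B' ∈ 𝓕 := ⟨hCB', hB'E.trans hEB, hne'⟩
    have h2 : f E ≤ f B' := by
      change Nat.card E * _ ≤ Nat.card B' * _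
      calc Nat.card E * Nat.card (W ⊓ centralizer (E : Set G) : Subgroup G) ≤
          (2 * Nat.card B') * Nat.card (W ⊓ centralizer (E : Set G) : Subgroup G) := Nat.mul_le_mul_right _ hcard1
        _ = Nat.card B' * (2 * Nat.card (W ⊓ centralizer (E : Set G) : Subgroup G)) := by ring
        _ ≤ _ := Nat.mul_le_mul_left _ hcard2
    have h3 : f B' = f F₀ := le_antisymm (hmax B' h1) (hE.2 ▸ h2)
    have h4 := hmin B' ⟨h1, h3⟩
    exact absurd (Subgroup.eq_of_le_of_card_ge hB'E h4) hB'lt.ne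
  -- `|W : C_W(E)| ≤ 2`
  set K : Subgroup G := W ⊓ centralizer (E : Set G) with hK
  have hK2 : Nat.card W ≤ 2 * Nat.card K := by
    have h1 : f B ≤ f E := hE.2 ▸ hmax B hBF
    have h2 : Nat.card W * Nat.card C ≤ Nat.card E * Nat.card K := hoff.trans h1
    rw [hB'C] at hcard1
    have h3 : Nat.card W * Nat.card C ≤ (2 * Nat.card K) * Nat.card C := by
      calc Nat.card W * Nat.card C ≤ Nat.card E * Nat.card K := h2
        _ ≤ 2 * Nat.card C * Nat.card K := Nat.mul_le_mul_right _ hcard1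
        _ = _ := by ring
    exact Nat.le_of_mul_le_mul_right h3 Nat.card_pos
  have hKW : K ≤ W := inf_le_left
  have hwK : w ∉ K := fun h0 => hne₀ (mem_centralizer_iff.1 (mem_inf.1 h0).2 e₀ he₀)
  -- classes modulo `K`
  have hcls : ∀ w' ∈ W, w' ∉ K → w' * w⁻¹ ∈ K := by
    intro w' hw' hw'K
    by_contra hcon
    have hd1 : Disjoint (K : Set G) ((fun x => x * w) '' (K : Set G)) := by
      rw [Set.disjoint_left]
      rintro x hx ⟨y, hy, rfl⟩
      exact hwK ((mul_mem_cancel_left hy).1 hx)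
    have hd2 : Disjoint ((K : Set G) ∪ ((fun x => x * w) '' (K : Set G))) ((fun x => x * w') '' (K : Set G)) := by
      rw [Set.disjoint_left]
      rintro x (hx | ⟨y, hy, rfl⟩) ⟨y', hy', he⟩
      · have he' : y' * w' = x := he
        rw [← he'] at hx
        exact hw'K ((mul_mem_cancel_left hy').1 hx)
      · have he' : y' * w' = y * w := he
        apply hcon
        have h1 : w' * w⁻¹ = y'⁻¹ * y := by
          rw [mul_inv_eq_iff_eq_mul, mul_assoc, ← he', inv_mul_cancel_left]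
        rw [h1]
        exact mul_mem (inv_mem hy') hy
    have hsub : ((K : Set G) ∪ ((fun x => x * w) '' (K : Set G))) ∪ ((fun x => x * w') '' (K : Set G)) ⊆
        (W : Set G) := by
      rintro x ((hx | ⟨y, hy, rfl⟩) | ⟨y, hy, rfl⟩)
      · exact hKW hx
      · exact mul_mem (hKW hy) hw
      · exact mul_mem (hKW hy) hw'
    have h1 := Set.ncard_le_ncard hsub (Set.toFinite _)
    rw [Set.ncard_union_eq hd2 (Set.toFinite _) (Set.toFinite _),
      Set.ncard_union_eq hd1 (Set.toFinite _) (Set.toFinite _),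
      Set.ncard_image_of_injective _ (mul_left_injective w),
      Set.ncard_image_of_injective _ (mul_left_injective w')] at h1
    have h4 : (K : Set G).ncard = Nat.card K := (Nat.card_coe_set_eq _).symm
    have h5 : (W : Set G).ncard = Nat.card W := (Nat.card_coe_set_eq _).symm
    rw [h4, h5] at h1
    have h6 : 0 < Nat.card K := Nat.card_pos
    omega
  refine ⟨e₀, hEB he₀, fun h0 => hne₀ (mem_centralizer_iff.1 h0 w hw).symm, c, hcW, fun w' hw' => ?_⟩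
  by_cases hw'K : w' ∈ K
  · left
    rw [mul_inv_eq_iff_eq_mul]
    exact mem_centralizer_iff.1 (mem_inf.1 hw'K).2 e₀ he₀
  · right
    have h1 := hcls w' hw' hw'K
    have h2 : e₀ * (w' * w⁻¹) = (w' * w⁻¹) * e₀ := mem_centralizer_iff.1 (mem_inf.1 h1).2 e₀ he₀
    calc e₀ * w' * e₀⁻¹ = (e₀ * (w' * w⁻¹)) * w * e₀⁻¹ := by group
      _ = (w' * w⁻¹) * e₀ * w * e₀⁻¹ := by rw [h2]
      _ = (w' * w⁻¹) * (e₀ * w * e₀⁻¹) := by group
      _ = (w' * w⁻¹) * (w * c) := by rw [hc₀]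
      _ = w' * c := by group

open Cfsg.Agent.Omega.NO3S.SN in
/-- **(h4).** -/
theorem exists_E [Finite G] {n : ℕ} [NeZero n] {V P : Subgroup G} {ε : (Fin n → ZMod 2) → G}
    (B : SN.Base V P ε) :
    (∃ E : Subgroup G, E ≤ Qn (pt ε 1) ∧ ¬ E ≤ centralizer (U V (pt ε 0) (pt ε 0) : Set G) ∧
      Inp V (U V (pt ε 0) (pt ε 0)) E) ∨
    (∃ τ ∈ Qn (pt ε 1), τ ∉ centralizer (U V (pt ε 0) (pt ε 0) : Set G) ∧
      ∃ c ∈ U V (pt ε 0) (pt ε 0), ∀ w ∈ U V (pt ε 0) (pt ε 0), τ * w * τ⁻¹ = w ∨ τ * w * τ⁻¹ = w * c) := by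
  obtain ⟨g, h1, h2, h3, h4, h5⟩ := B.exists_off
  set W := U V (pt ε 0) (pt ε 0) with hW
  have hWc : ∀ x ∈ W, ∀ y ∈ W, x * y = y * x := fun x hx y hy =>
    (mem_centralizer_iff.1 (B.U_comm _ hx) y hy).symm
  have hBc : ∀ x ∈ MulAut.conj g • W, ∀ y ∈ MulAut.conj g • W, x * y = y * x := by
    rintro _ ⟨x, hx, rfl⟩ _ ⟨y, hy, rfl⟩
    change g * x * g⁻¹ * (g * y * g⁻¹) = g * y * g⁻¹ * (g * x * g⁻¹)
    calc g * x * g⁻¹ * (g * y * g⁻¹) = g * (x * y) * g⁻¹ := by group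
      _ = g * (y * x) * g⁻¹ := by rw [hWc x hx y hy]
      _ = _ := by group
  have hcom : ∀ w ∈ W, ∀ b ∈ MulAut.conj g • W, b * w * b⁻¹ * w⁻¹ ∈ W ⊓ MulAut.conj g • W := by
    intro w hw b hb
    have h6 : w * b * w⁻¹ * b⁻¹ ∈ W ⊓ MulAut.conj g • W := h4 (commutator_mem_commutator hw hb)
    have h7 := inv_mem h6
    have e : (w * b * w⁻¹ * b⁻¹)⁻¹ = b * w * b⁻¹ * w⁻¹ := by group
    rwa [e] at h7
  rcases exists_min hWc hBc (fun w hw b hb => (mem_inf.1 (hcom w hw b hb)).2)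
    (fun w hw b hb => by
      have h6 := (mem_inf.1 (hcom w hw b hb)).1
      exact (mul_mem_cancel_right (inv_mem hw)).1 h6) h3 h5 with ⟨E, hE, hne, hquad, hfour⟩ | ⟨τ, hτ, hne, c, hc, h6⟩
  · left
    refine ⟨E, hE.trans h1, hne, ?_, hquad, hfour⟩
    exact (hE.trans h1).trans ((B.Qn_le _).trans (centralizer_le (B.V_le_U 1)))
  · right
    exact ⟨τ, h1 hτ, hne, c, hc, h6⟩

end Cfsg.Agent.Omega.NO3S.SN2.PathW
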