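import Cfsg.Agent.Omega.NSix.Basic

/-!
# SN.Two, THEOREM PATH (helper179 #20810, helper347 #21224): the setting and the coefficient functions

`V` = a line on the point `z = zz ε 0` (labelled by `ε`), `W = U_z` elementary abelian, `Wp i j` (`i, j ≠ 0`) the
subgroup `W_ij(V)` generated by the lines over `D_ij = {ε x | x i = x j}`: `|Wp i j : V| = 2`, and `C_G(V)` acts on it
by `[u, q] = z_i ^ fc i j q * z_j ^ fc j i q`.

* `XX ε i j` : `C_G(D_ij)`;
* `Sit V W ε Wp` : the setting (field `br` = `[W_ij, C_G(V)] ≤ ⟨z_i, z_j⟩`);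
* `fc` : the coefficient functions; `Sit.fc_spec`, `fc_mul`, `fc_conj`.
-/

set_option autoImplicit false
set_option linter.unusedSectionVars false

namespace Cfsg.Agent.Omega.NO3S.SN2.PathW

open Subgroup Cfsg.Agent.Omega.S5.Def Cfsg.Agent.Omega.NSix.Base Cfsg.Agent.Omega.NSix.Basic

universe u

variable {G : Type u} [Group G] {n : ℕ}

/-- `C_G(D_ij)`, `D_ij = {ε x | x i = x j}`. -/
def XX (ε : (Fin n → ZMod 2) → G) (i j : Fin n) : Subgroup G :=
  centralizer {g | ∃ x : Fin n → ZMod 2, x i = x j ∧ ε x = g}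

theorem mem_XX {ε : (Fin n → ZMod 2) → G} {i j : Fin n} {g : G} :
    g ∈ XX ε i j ↔ ∀ x : Fin n → ZMod 2, x i = x j → g * ε x = ε x * g := by
  unfold XX
  rw [mem_centralizer_iff]
  constructor
  · intro h x hx
    exact (h _ ⟨x, hx, rfl⟩).symm
  · rintro h _ ⟨x, hx, rfl⟩
    exact (h x hx).symm

theorem XX_symm (ε : (Fin n → ZMod 2) → G) (i j : Fin n) : XX ε i j = XX ε j i := by
  ext g
  rw [mem_XX, mem_XX]
  exact ⟨fun h x hx => h x hx.symm, fun h x hx => h x hx.symm⟩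

/-- A pair of different letters different from `0`. -/
def Gp [NeZero n] (i j : Fin n) : Prop := i ≠ 0 ∧ j ≠ 0 ∧ i ≠ j

theorem Gp.symm [NeZero n] {i j : Fin n} (h : Gp i j) : Gp j i := ⟨h.2.1, h.1, h.2.2.symm⟩

/-- `z_i ^ a z_j ^ b`. -/
def tt (ε : (Fin n → ZMod 2) → G) (i j : Fin n) (a b : ZMod 2) : G :=
  ε (a • Pi.single i 1 + b • Pi.single j 1)

section tt

variable {V L : Subgroup G} {ε : (Fin n → ZMod 2) → G} (h : EvenSet n V L ε)
include h

theorem tt_mem (i j : Fin n) (a b : ZMod 2) : tt ε i j a b ∈ V := h.mem _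

theorem tt_zero (i j : Fin n) : tt ε i j 0 0 = 1 := by
  unfold tt
  rw [zero_smul, zero_smul, add_zero, h.zero]

omit h in
theorem tt_zero_one (i j : Fin n) : tt ε i j 0 1 = zz ε j := by
  unfold tt zz
  rw [zero_smul, one_smul, zero_add]

omit h in
theorem tt_one_zero (i j : Fin n) : tt ε i j 1 0 = zz ε i := by
  unfold tt zz
  rw [zero_smul, one_smul, add_zero]

theorem tt_one_one (i j : Fin n) : tt ε i j 1 1 = rr ε i j := by
  unfold tt rr zz
  rw [one_smul, one_smul, h.add]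

omit h in
theorem tt_symm (i j : Fin n) (a b : ZMod 2) : tt ε i j a b = tt ε j i b a := by
  unfold tt
  rw [add_comm]

theorem tt_add (i j : Fin n) (a b a' b' : ZMod 2) :
    tt ε i j a b * tt ε i j a' b' = tt ε i j (a + a') (b + b') := by
  unfold tt
  rw [← h.add]
  congr 1
  rw [add_smul, add_smul]
  abel

theorem tt_inj (hn : 3 ≤ n) {i j : Fin n} (hij : i ≠ j) {a b a' b' : ZMod 2}
    (he : tt ε i j a b = tt ε i j a' b') : a = a' ∧ b = b' := by
  obtain ⟨k, hk⟩ : ∃ k : Fin n, k ∉ ({i, j} : Finset (Fin n)) := by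
    by_contra hcon
    push Not at hcon
    have h1 : (Finset.univ : Finset (Fin n)) ⊆ {i, j} := fun k _ => hcon k
    have h2 := Finset.card_le_card h1
    rw [Finset.card_univ, Fintype.card_fin] at h2
    have h3 : ({i, j} : Finset (Fin n)).card ≤ 2 := Finset.card_le_two
    omega
  simp only [Finset.mem_insert, Finset.mem_singleton, not_or] at hk
  have e : ∀ (c d : ZMod 2), (c • Pi.single i 1 + d • Pi.single j 1 : Fin n → ZMod 2) i = c ∧
      (c • Pi.single i 1 + d • Pi.single j 1 : Fin n → ZMod 2) j = d ∧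
      (c • Pi.single i 1 + d • Pi.single j 1 : Fin n → ZMod 2) k = 0 := by
    intro c d
    simp only [Pi.add_apply, Pi.smul_apply, smul_eq_mul]
    rw [Pi.single_eq_same, Pi.single_eq_of_ne hij, Pi.single_eq_of_ne hij.symm, Pi.single_eq_same,
      Pi.single_eq_of_ne hk.1, Pi.single_eq_of_ne hk.2]
    simp
  rcases h.eq_iff.1 he with h1 | h1
  · have h2 := congrFun h1 i
    have h3 := congrFun h1 j
    rw [(e a b).1, (e a' b').1] at h2
    rw [(e a b).2.1, (e a' b').2.1] at h3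
    exact ⟨h2, h3⟩
  · exfalso
    have h2 := congrFun h1 k
    rw [(e a b).2.2, Pi.add_apply, (e a' b').2.2, zero_add, Pi.one_apply] at h2
    exact zero_ne_one h2

omit h in
theorem tt_conj {g : G} {σ : Equiv.Perm (Fin n)} (hg : Acts ε g σ) (i j : Fin n) (a b : ZMod 2) :
    g * tt ε i j a b * g⁻¹ = tt ε (σ i) (σ j) a b := by
  unfold tt
  rw [hg]
  congr 1
  have e : ∀ k : Fin n, (Pi.single k 1 : Fin n → ZMod 2) ∘ σ.symm = Pi.single (σ k) 1 := by
    intro k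
    funext l
    by_cases hl : l = σ k
    · subst hl
      simp
    · have h1 : σ.symm l ≠ k := fun h0 => hl (by rw [← h0, Equiv.apply_symm_apply])
      simp [Function.comp, hl, h1]
  rw [← e i, ← e j]
  rfl

end tt

/-- **The setting.** -/
structure Sit [NeZero n] (V W : Subgroup G) (ε : (Fin n → ZMod 2) → G) (Wp : Fin n → Fin n → Subgroup G) :
    Prop where
  n5 : 5 ≤ n
  ev : EvenSet n V (normalizer (V : Set G)) ε
  comm : ∀ x ∈ W, ∀ y ∈ W, x * y = y * x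
  sq : ∀ x ∈ W, x * x = 1
  nW : ∀ c ∈ centralizer ({zz ε 0} : Set G), ∀ w ∈ W, c * w * c⁻¹ ∈ W
  le : ∀ i j, Gp i j → Wp i j ≤ W
  VW : ∀ i j, Gp i j → V ≤ Wp i j
  symm : ∀ i j, Gp i j → Wp i j ≤ Wp j i
  nV : ∀ i j, Gp i j → ∃ w ∈ Wp i j, w ∉ V
  two : ∀ i j, Gp i j → ∀ w ∈ Wp i j, ∀ w' ∈ Wp i j, w ∉ V → w' ∉ V → w * w' ∈ V
  nor : ∀ i j, Gp i j → ∀ c ∈ XX ε i j, ∀ w ∈ Wp i j, c * w * c⁻¹ ∈ Wp i j
  conj : ∀ g ∈ centralizer ({zz ε 0} : Set G), ∀ σ, Acts ε g σ → ∀ i j, Gp i j → ∀ w ∈ Wp i j,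
    g * w * g⁻¹ ∈ Wp (σ i) (σ j)
  mov : ∀ i j, Gp i j → ∃ c ∈ XX ε i j, c ∉ normalizer (V : Set G)
  br : ∀ i j, Gp i j → ∀ q ∈ centralizer (V : Set G), ∀ w ∈ Wp i j, ∃ a b : ZMod 2,
    q * w * q⁻¹ = w * tt ε i j a b

open Classical in
/-- The coefficient of `z_i` in `[W_ij, q]`. -/
noncomputable def fc (ε : (Fin n → ZMod 2) → G) (Wp : Fin n → Fin n → Subgroup G) (i j : Fin n) (q : G) :
    ZMod 2 :=
  if ∃ w ∈ Wp i j, q * w * q⁻¹ * w⁻¹ ≠ 1 ∧ q * w * q⁻¹ * w⁻¹ ≠ zz ε j then 1 else 0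

namespace Sit

variable [NeZero n] {V W : Subgroup G} {ε : (Fin n → ZMod 2) → G} {Wp : Fin n → Fin n → Subgroup G}
  (h : Sit V W ε Wp)
include h

theorem n3 : 3 ≤ n := by have := h.n5; omega

theorem inv {x : G} (hx : x ∈ W) : x⁻¹ = x := inv_eq_of_mul_eq_one_left (h.sq x hx)

theorem VleW : V ≤ W := by
  obtain ⟨i, hi⟩ : ∃ i : Fin n, i ∉ ({0} : Finset (Fin n)) := by
    by_contra hcon
    push Not at hcon
    have h1 : (Finset.univ : Finset (Fin n)) ⊆ {0} := fun k _ => hcon k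
    have h2 := Finset.card_le_card h1
    rw [Finset.card_univ, Fintype.card_fin, Finset.card_singleton] at h2
    have := h.n5
    omega
  obtain ⟨j, hj⟩ : ∃ j : Fin n, j ∉ ({0, i} : Finset (Fin n)) := by
    by_contra hcon
    push Not at hcon
    have h1 : (Finset.univ : Finset (Fin n)) ⊆ {0, i} := fun k _ => hcon k
    have h2 := Finset.card_le_card h1
    rw [Finset.card_univ, Fintype.card_fin] at h2
    have h3 : ({0, i} : Finset (Fin n)).card ≤ 2 := Finset.card_le_two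
    have := h.n5
    omega
  simp only [Finset.mem_singleton] at hi
  simp only [Finset.mem_insert, Finset.mem_singleton, not_or] at hj
  have hp : Gp i j := ⟨hi, hj.1, fun h0 => hj.2 h0.symm⟩
  exact (h.VW i j hp).trans (h.le i j hp)

theorem fix0 {g : G} {σ : Equiv.Perm (Fin n)} (hg : g ∈ centralizer ({zz ε 0} : Set G)) (hσ : Acts ε g σ) :
    σ 0 = 0 := by
  refine (h.ev.fixes_iff h.n3 hσ 0).1 ?_
  exact mem_centralizer_singleton_iff.1 hg |>.symm ▸ rfl

theorem gp {g : G} {σ : Equiv.Perm (Fin n)} (hg : g ∈ centralizer ({zz ε 0} : Set G)) (hσ : Acts ε g σ)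
    {i j : Fin n} (hp : Gp i j) : Gp (σ i) (σ j) := by
  have h0 := h.fix0 hg hσ
  refine ⟨fun h1 => hp.1 ?_, fun h1 => hp.2.1 ?_, fun h1 => hp.2.2 (σ.injective h1)⟩
  · exact σ.injective (h1.trans h0.symm)
  · exact σ.injective (h1.trans h0.symm)

theorem comm_of {q v : G} (hq : q ∈ centralizer (V : Set G)) (hv : v ∈ V) : q * v = v * q :=
  (mem_centralizer_iff.1 hq v hv).symm

/-- The bracket on an element outside `V` determines all brackets. -/
theorem br_eq {i j : Fin n} (hp : Gp i j) {q : G} (hq : q ∈ centralizer (V : Set G)) {w w' : G}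
    (hw : w ∈ Wp i j) (hwV : w ∉ V) (hw' : w' ∈ Wp i j) (hwV' : w' ∉ V) :
    q * w' * q⁻¹ * w'⁻¹ = q * w * q⁻¹ * w⁻¹ := by
  have h1 := h.two i j hp w hw w' hw' hwV hwV'
  have hw2 := h.sq w (h.le i j hp hw)
  have e : w' = w * (w * w') := by rw [← mul_assoc, hw2, one_mul]
  set v := w * w' with hv
  have h2 := h.comm_of hq h1
  have h3 := h.comm w (h.le i j hp hw) v (h.VleW h1)
  rw [e]
  calc q * (w * v) * q⁻¹ * (w * v)⁻¹ = q * w * (v * q⁻¹) * v⁻¹ * w⁻¹ := by group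
    _ = q * w * (q⁻¹ * v) * v⁻¹ * w⁻¹ := by
        have h4 : v * q⁻¹ = q⁻¹ * v := by
          calc v * q⁻¹ = q⁻¹ * (q * v) * q⁻¹ := by group
            _ = q⁻¹ * (v * q) * q⁻¹ := by rw [h2]
            _ = q⁻¹ * v := by group
        rw [h4]
    _ = q * w * q⁻¹ * w⁻¹ := by group

theorem fc_eq {i j : Fin n} (hp : Gp i j) {q : G} (hq : q ∈ centralizer (V : Set G)) {w : G}
    (hw : w ∈ Wp i j) (hwV : w ∉ V) {a b : ZMod 2} (he : q * w * q⁻¹ = w * tt ε i j a b) :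
    fc ε Wp i j q = a := by
  have hc := h.comm w (h.le i j hp hw) _ (h.VleW (tt_mem h.ev i j a b))
  have he' : q * w * q⁻¹ * w⁻¹ = tt ε i j a b := by rw [he, hc, mul_inv_cancel_right]
  have key : (∃ w ∈ Wp i j, q * w * q⁻¹ * w⁻¹ ≠ 1 ∧ q * w * q⁻¹ * w⁻¹ ≠ zz ε j) ↔
      (tt ε i j a b ≠ 1 ∧ tt ε i j a b ≠ zz ε j) := by
    constructor
    · rintro ⟨w', hw', h1, h2⟩
      by_cases hV : w' ∈ V
      · exfalso
        apply h1
        rw [h.comm_of hq hV]
        group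
      · rw [h.br_eq hp hq hw hwV hw' hV, he'] at h1 h2
        exact ⟨h1, h2⟩
    · intro h1
      refine ⟨w, hw, ?_⟩
      rw [he']
      exact h1
  have h01 : ∀ c : ZMod 2, c = 0 ∨ c = 1 := by decide
  unfold fc
  rcases h01 a with h1 | h1
  · rw [if_neg, h1]
    rw [key, h1]
    rintro ⟨h2, h3⟩
    rcases h01 b with h4 | h4
    · rw [h4] at h2
      exact h2 (tt_zero h.ev i j)
    · rw [h4] at h3
      exact h3 (tt_zero_one i j)
  · rw [if_pos, h1]
    rw [key, h1]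
    constructor
    · rw [← tt_zero h.ev i j]
      intro h2
      exact one_ne_zero (tt_inj h.ev h.n3 hp.2.2 h2).1
    · rw [← tt_zero_one (ε := ε) i j]
      intro h2
      exact one_ne_zero (tt_inj h.ev h.n3 hp.2.2 h2).1

/-- **The coefficient functions.** -/
theorem fc_spec {i j : Fin n} (hp : Gp i j) {q : G} (hq : q ∈ centralizer (V : Set G)) {w : G}
    (hw : w ∈ Wp i j) (hwV : w ∉ V) :
    q * w * q⁻¹ = w * tt ε i j (fc ε Wp i j q) (fc ε Wp j i q) := by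
  obtain ⟨a, b, he⟩ := h.br i j hp q hq w hw
  have h1 := h.fc_eq hp hq hw hwV he
  have h2 := h.fc_eq hp.symm hq (h.symm i j hp hw) hwV (he.trans (by rw [tt_symm]))
  rw [h1, h2]
  exact he

theorem fc_mul {i j : Fin n} (hp : Gp i j) {q q' : G} (hq : q ∈ centralizer (V : Set G))
    (hq' : q' ∈ centralizer (V : Set G)) :
    fc ε Wp i j (q * q') = fc ε Wp i j q + fc ε Wp i j q' := by
  obtain ⟨w, hw, hwV⟩ := h.nV i j hp
  refine h.fc_eq hp (mul_mem hq hq') hw hwV (b := fc ε Wp j i q + fc ε Wp j i q') ?_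
  have h1 := h.fc_spec hp hq hw hwV
  have h2 := h.fc_spec hp hq' hw hwV
  have h3 := h.comm_of hq (tt_mem h.ev i j (fc ε Wp i j q') (fc ε Wp j i q'))
  calc q * q' * w * (q * q')⁻¹ = q * (q' * w * q'⁻¹) * q⁻¹ := by group
    _ = q * (w * tt ε i j (fc ε Wp i j q') (fc ε Wp j i q')) * q⁻¹ := by rw [h2]
    _ = (q * w * q⁻¹) * (q * tt ε i j (fc ε Wp i j q') (fc ε Wp j i q') * q⁻¹) := by group
    _ = (w * tt ε i j (fc ε Wp i j q) (fc ε Wp j i q)) * tt ε i j (fc ε Wp i j q') (fc ε Wp j i q') := by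
        rw [h1, h3, mul_inv_cancel_right]
    _ = _ := by rw [mul_assoc, tt_add h.ev]

theorem fc_one {i j : Fin n} (hp : Gp i j) : fc ε Wp i j 1 = 0 := by
  have h1 := h.fc_mul hp (one_mem _) (one_mem _)
  rw [one_mul] at h1
  exact left_eq_add.1 h1

theorem fc_conj {i j : Fin n} (hp : Gp i j) {g : G} (hg : g ∈ centralizer ({zz ε 0} : Set G))
    {σ : Equiv.Perm (Fin n)} (hσ : Acts ε g σ) {q : G} (hq : q ∈ centralizer (V : Set G)) :
    fc ε Wp (σ i) (σ j) (g * q * g⁻¹) = fc ε Wp i j q := by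
  obtain ⟨w, hw, hwV⟩ := h.nV i j hp
  have hgn : g ∈ normalizer (V : Set G) := acts_norm h.ev hσ
  have hq' : g * q * g⁻¹ ∈ centralizer (V : Set G) := by
    rw [mem_centralizer_iff]
    intro v hv
    have h1 : g⁻¹ * v * g ∈ V := by
      have := (mem_normalizer_iff.1 (inv_mem hgn) v).1 hv
      rwa [inv_inv] at this
    have h2 := h.comm_of hq h1
    calc v * (g * q * g⁻¹) = g * ((g⁻¹ * v * g) * q) * g⁻¹ := by group
      _ = g * (q * (g⁻¹ * v * g)) * g⁻¹ := by rw [h2]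
      _ = g * q * g⁻¹ * v := by group
  have hwV' : g * w * g⁻¹ ∉ V := fun h1 => hwV ((mem_normalizer_iff.1 hgn w).2 h1)
  refine h.fc_eq (h.gp hg hσ hp) hq' (h.conj g hg σ hσ i j hp w hw) hwV' (b := fc ε Wp j i q) ?_
  have h1 := h.fc_spec hp hq hw hwV
  calc g * q * g⁻¹ * (g * w * g⁻¹) * (g * q * g⁻¹)⁻¹ = g * (q * w * q⁻¹) * g⁻¹ := by group
    _ = g * (w * tt ε i j (fc ε Wp i j q) (fc ε Wp j i q)) * g⁻¹ := by rw [h1]
    _ = g * w * g⁻¹ * (g * tt ε i j (fc ε Wp i j q) (fc ε Wp j i q) * g⁻¹) := by group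
    _ = _ := by rw [tt_conj hσ]

end Sit

end Cfsg.Agent.Omega.NO3S.SN2.PathW
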