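import Cfsg.Agent.Omega.NO3S.SN2.Path.Sit
import Cfsg.Agent.Omega.S5.Pair

/-!
# SN.Two, THEOREM PATH: helper347's (C') (#21224)

`E ≤ C_G(V)` quadratic on `W`, `|[w, E]| ≠ 2` for `w ∈ W`: if `E` moves one `W_ij` (`i, j ≠ 0`), it moves all of them
(`Sit.star`).

* `Inp` : the hypotheses on `E`;
* `Sit.full` : `(fc i j, fc j i)` is onto on `E` when `E` moves `W_ij`;
* `Sit.key` : the class of `u_ik u_jk` modulo `W_ij` is fixed by `XX ε i j`;
* `Sit.ker` : `fc i k = fc j k` where `fc i j = fc j i = 0`;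
* `Sit.eta` : `fc i k + fc j k = η (fc i j + fc j i)` for all triples, one `η`.
-/

set_option autoImplicit false
set_option linter.unusedSectionVars false

namespace Cfsg.Agent.Omega.NO3S.SN2.PathW

open Subgroup Pointwise Cfsg.Agent.Omega.S5.Def Cfsg.Agent.Omega.NSix.Base Cfsg.Agent.Omega.NSix.Basic
open Cfsg.Agent.Omega.S5.Pair (comp_swap)

universe u

variable {G : Type u} [Group G] {n : ℕ}

/-- The hypotheses on the minimal offender. -/
structure Inp (V W E : Subgroup G) : Prop where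
  cen : E ≤ centralizer (V : Set G)
  quad : ∀ w ∈ W, ∀ e ∈ E, ∀ e' ∈ E, e' * (e * w * e⁻¹ * w⁻¹) = (e * w * e⁻¹ * w⁻¹) * e'
  four : ∀ w ∈ W, ∀ c : G, (∀ e ∈ E, e * w * e⁻¹ = w ∨ e * w * e⁻¹ = w * c) → ∀ e ∈ E, e * w = w * e

theorem z01 : ∀ c : ZMod 2, c = 0 ∨ c = 1 := by decide

namespace Sit

variable [NeZero n] {V W : Subgroup G} {ε : (Fin n → ZMod 2) → G} {Wp : Fin n → Fin n → Subgroup G}
  (h : Sit V W ε Wp) {E : Subgroup G}
include h

/-! ### `E` on a moved pair -/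

theorem full (I : Inp V W E) {i j : Fin n} (hp : Gp i j) (hm : ∃ e ∈ E, fc ε Wp i j e ≠ 0 ∨ fc ε Wp j i e ≠ 0)
    (a b : ZMod 2) : ∃ e ∈ E, fc ε Wp i j e = a ∧ fc ε Wp j i e = b := by
  obtain ⟨w, hw, hwV⟩ := h.nV i j hp
  have hwW := h.le i j hp hw
  obtain ⟨e₀, he₀, hne⟩ := hm
  have hmov : e₀ * w ≠ w * e₀ := by
    intro h0
    have h1 := h.fc_spec hp (I.cen he₀) hw hwV
    rw [h0, mul_inv_cancel_right] at h1
    have h2 : tt ε i j (fc ε Wp i j e₀) (fc ε Wp j i e₀) = tt ε i j 0 0 := by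
      rw [tt_zero h.ev]
      exact (mul_eq_left.1 h1.symm)
    have h3 := tt_inj h.ev h.n3 hp.2.2 h2
    rcases hne with h4 | h4
    · exact h4 h3.1
    · exact h4 h3.2
  have hsp : ∀ e ∈ E, e * w * e⁻¹ = w * tt ε i j (fc ε Wp i j e) (fc ε Wp j i e) := fun e he =>
    h.fc_spec hp (I.cen he) hw hwV
  -- `fc j i ≠ 0` somewhere
  obtain ⟨e₂, he₂, h2⟩ : ∃ e ∈ E, fc ε Wp j i e = 1 := by
    by_contra hcon
    push Not at hcon
    refine hmov (I.four w hwW (zz ε i) (fun e he => ?_) e₀ he₀)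
    have h1 : fc ε Wp j i e = 0 := (z01 _).resolve_right (hcon e he)
    rw [hsp e he, h1]
    rcases z01 (fc ε Wp i j e) with h3 | h3
    · left; rw [h3, tt_zero h.ev, mul_one]
    · right; rw [h3, tt_one_zero]
  obtain ⟨e₁, he₁, h1⟩ : ∃ e ∈ E, fc ε Wp i j e = 1 := by
    by_contra hcon
    push Not at hcon
    refine hmov (I.four w hwW (zz ε j) (fun e he => ?_) e₀ he₀)
    have h1 : fc ε Wp i j e = 0 := (z01 _).resolve_right (hcon e he)
    rw [hsp e he, h1]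
    rcases z01 (fc ε Wp j i e) with h3 | h3
    · left; rw [h3, tt_zero h.ev, mul_one]
    · right; rw [h3, tt_zero_one]
  obtain ⟨e₃, he₃, h3⟩ : ∃ e ∈ E, fc ε Wp i j e ≠ fc ε Wp j i e := by
    by_contra hcon
    push Not at hcon
    refine hmov (I.four w hwW (rr ε i j) (fun e he => ?_) e₀ he₀)
    have h4 := hcon e he
    rw [hsp e he, ← h4]
    rcases z01 (fc ε Wp i j e) with h3 | h3
    · left; rw [h3, tt_zero h.ev, mul_one]
    · right; rw [h3, tt_one_one h.ev]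
  have hmul : ∀ x ∈ E, ∀ y ∈ E, fc ε Wp i j (x * y) = fc ε Wp i j x + fc ε Wp i j y ∧
      fc ε Wp j i (x * y) = fc ε Wp j i x + fc ε Wp j i y := fun x hx y hy =>
    ⟨h.fc_mul hp (I.cen hx) (I.cen hy), h.fc_mul hp.symm (I.cen hx) (I.cen hy)⟩
  -- two independent elements
  have comb : ∀ x ∈ E, ∀ y ∈ E, ∀ a₁ b₁ a₂ b₂ : ZMod 2, fc ε Wp i j x = a₁ → fc ε Wp j i x = b₁ →
      fc ε Wp i j y = a₂ → fc ε Wp j i y = b₂ → a₁ * b₂ + a₂ * b₁ = 1 →
      ∃ e ∈ E, fc ε Wp i j e = a ∧ fc ε Wp j i e = b := by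
    intro x hx y hy a₁ b₁ a₂ b₂ e1 e2 e3 e4 hd
    have key : ∀ a₁ b₁ a₂ b₂ a b : ZMod 2, a₁ * b₂ + a₂ * b₁ = 1 →
        (a = 0 ∧ b = 0) ∨ (a = a₁ ∧ b = b₁) ∨ (a = a₂ ∧ b = b₂) ∨ (a = a₁ + a₂ ∧ b = b₁ + b₂) := by decide
    rcases key a₁ b₁ a₂ b₂ a b hd with ⟨k1, k2⟩ | ⟨k1, k2⟩ | ⟨k1, k2⟩ | ⟨k1, k2⟩
    · exact ⟨1, one_mem _, by rw [h.fc_one hp, k1], by rw [h.fc_one hp.symm, k2]⟩
    · exact ⟨x, hx, by rw [e1, k1], by rw [e2, k2]⟩
    · exact ⟨y, hy, by rw [e3, k1], by rw [e4, k2]⟩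
    · exact ⟨x * y, mul_mem hx hy, by rw [(hmul x hx y hy).1, e1, e3, k1],
        by rw [(hmul x hx y hy).2, e2, e4, k2]⟩
  have hdec : ∀ c d : ZMod 2, c ≠ d → (c = 1 ∧ d = 0) ∨ (c = 0 ∧ d = 1) := by decide
  rcases hdec _ _ h3 with ⟨k1, k2⟩ | ⟨k1, k2⟩
  · exact comb e₃ he₃ e₂ he₂ 1 0 _ 1 k1 k2 rfl h2 (by rw [mul_zero, add_zero, mul_one])
  · refine comb e₃ he₃ e₁ he₁ 0 1 1 _ k1 k2 h1 rfl (by rw [zero_mul, zero_add, mul_one])

/-! ### The group `XX ε i j` -/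

theorem XX_le {i j : Fin n} (hp : Gp i j) : XX ε i j ≤ centralizer ({zz ε 0} : Set G) := by
  intro x hx
  rw [mem_centralizer_singleton_iff]
  refine (mem_XX.1 hx (Pi.single 0 1) ?_)
  rw [Pi.single_eq_of_ne hp.1, Pi.single_eq_of_ne hp.2.1]

theorem cen_le_XX (i j : Fin n) : centralizer (V : Set G) ≤ XX ε i j := by
  intro x hx
  rw [mem_XX]
  intro y _
  exact h.comm_of hx (h.ev.mem y)

/-- An element of `XX ε i j` which maps one vector outside `D_ij` into `V` normalises `V`. -/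
theorem norm_of [Finite G] {i j : Fin n} {x : G} (hx : x ∈ XX ε i j) {y : Fin n → ZMod 2}
    (hy : y i ≠ y j) (hV : x * ε y * x⁻¹ ∈ V) : x ∈ normalizer (V : Set G) := by
  have key : ∀ v ∈ V, x * v * x⁻¹ ∈ V := by
    intro v hv
    obtain ⟨s, rfl⟩ := h.ev.surj v hv
    by_cases hs : s i = s j
    · have h1 := mem_XX.1 hx s hs
      rw [h1, mul_inv_cancel_right]
      exact hv
    · have h2 : (s + y) i = (s + y) j := by
        have hd : ∀ a b c d : ZMod 2, a ≠ b → c ≠ d → a + c = b + d := by decide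
        exact hd _ _ _ _ hs hy
      have h1 := mem_XX.1 hx _ h2
      have h3 : ε s = ε (s + y) * ε y := by
        rw [← h.ev.add, add_assoc, add_self, add_zero]
      rw [h3]
      have h4 : x * (ε (s + y) * ε y) * x⁻¹ = ε (s + y) * (x * ε y * x⁻¹) := by
        calc x * (ε (s + y) * ε y) * x⁻¹ = (x * ε (s + y)) * ε y * x⁻¹ := by group
          _ = (ε (s + y) * x) * ε y * x⁻¹ := by rw [h1]
          _ = _ := by group
      rw [h4]
      exact mul_mem (h.ev.mem _) hV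
  have h1 : (MulAut.conj x • V : Subgroup G) = V := by
    have hle : MulAut.conj x • V ≤ V := by
      rintro _ ⟨v, hv, rfl⟩
      exact key v hv
    refine Subgroup.eq_of_le_of_card_ge hle ?_
    exact (Nat.card_congr (Subgroup.equivSMul (MulAut.conj x) V).toEquiv).le
  rw [mem_normalizer_iff]
  intro v
  refine ⟨key v, fun hv => ?_⟩
  rw [← h1] at hv
  obtain ⟨w, hw, he⟩ := hv
  have h2 : w = v := by
    have h3 : x * w * x⁻¹ = x * v * x⁻¹ := he
    exact mul_left_cancel (mul_right_cancel h3)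
  rwa [← h2]

theorem acts_XX {i j : Fin n} (hp : Gp i j) {x : G} (hx : x ∈ XX ε i j) {σ : Equiv.Perm (Fin n)}
    (hσ : Acts ε x σ) : (∀ k, k ≠ i → k ≠ j → σ k = k) ∧ ((σ i = i ∧ σ j = j) ∨ (σ i = j ∧ σ j = i)) := by
  have h1 : ∀ k, k ≠ i → k ≠ j → σ k = k := by
    intro k hki hkj
    refine (h.ev.fixes_iff h.n3 hσ k).1 (mem_XX.1 hx _ ?_)
    rw [Pi.single_eq_of_ne hki.symm, Pi.single_eq_of_ne hkj.symm]
  have h2 : ∀ l, (l = i ∨ l = j) → σ l = i ∨ σ l = j := by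
    intro l hl
    by_contra hcon
    push Not at hcon
    have h3 := σ.injective (h1 _ hcon.1 hcon.2)
    rw [h3] at hcon
    rcases hl with rfl | rfl
    · exact hcon.1 rfl
    · exact hcon.2 rfl
  refine ⟨h1, ?_⟩
  rcases h2 i (Or.inl rfl) with h3 | h3 <;> rcases h2 j (Or.inr rfl) with h4 | h4
  · exact absurd (σ.injective (h3.trans h4.symm)) hp.2.2
  · exact Or.inl ⟨h3, h4⟩
  · exact Or.inr ⟨h3, h4⟩
  · exact absurd (σ.injective (h3.trans h4.symm)) hp.2.2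

theorem acts_swap_of {i j : Fin n} {x : G} (hx : x ∈ XX ε i j) (hz : x * zz ε i * x⁻¹ = zz ε j) :
    Acts ε x (Equiv.swap i j) := by
  intro s
  rw [comp_swap]
  by_cases hs : s i = s j
  · have h1 := mem_XX.1 hx s hs
    rw [h1, mul_inv_cancel_right, hs, CharTwo.add_self_eq_zero, zero_smul, add_zero]
  · by_cases hij : i = j
    · exact absurd (by rw [hij]) hs
    have hd : ∀ a b : ZMod 2, a ≠ b → a + b = 1 := by decide
    rw [hd _ _ hs, one_smul]
    have h2 : (s + Pi.single i 1 : Fin n → ZMod 2) i = (s + Pi.single i 1 : Fin n → ZMod 2) j := by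
      rw [Pi.add_apply, Pi.add_apply, Pi.single_eq_same, Pi.single_eq_of_ne (Ne.symm hij), add_zero]
      have hd' : ∀ a b : ZMod 2, a ≠ b → a + 1 = b := by decide
      exact hd' _ _ hs
    have h1 := mem_XX.1 hx _ h2
    have h3 : ε s = ε (s + Pi.single i 1) * zz ε i := by
      unfold zz
      rw [← h.ev.add, add_assoc, add_self, add_zero]
    calc x * ε s * x⁻¹ = (x * ε (s + Pi.single i 1)) * zz ε i * x⁻¹ := by rw [h3]; group
      _ = (ε (s + Pi.single i 1) * x) * zz ε i * x⁻¹ := by rw [h1]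
      _ = ε (s + Pi.single i 1) * (x * zz ε i * x⁻¹) := by group
      _ = ε (s + Pi.single i 1) * zz ε j := by rw [hz]
      _ = ε (s + (Pi.single i 1 + Pi.single j 1)) := by
          unfold zz
          rw [← h.ev.add, add_assoc]

end Sit

end Cfsg.Agent.Omega.NO3S.SN2.PathW
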