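import Cfsg.Agent.Omega.NO3S.SN2.Path.Eta

/-!
# SN.Two, THEOREM PATH (helper179 #20810, helper447 #21075)

`M0 V ε = ⟨N_G(V) ∩ C_G(z), XX ε i j | i, j ≠ 0⟩`: the lines `V^m`, `m ∈ M0`, are those connected with `V`.

* `Sit.all` **(A)** : `E ≤ C_G(V)` quadratic, `|[w, E]| ≠ 2`, `E` centralises one `W_ij`: it centralises
  `W_kl(V^m)` and `V^m` for all `m ∈ M0`, all `k, l`;
* `Sit.centre` **(B)** : `τ` a transvection on `W` with centre `c` which centralises `V`, but not all `V^m`, `m ∈ M0`: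
  `c` is a point `≠ z` (heavy) or a pair (light) of some `V^m`.
-/

set_option autoImplicit false
set_option linter.unusedSectionVars false

namespace Cfsg.Agent.Omega.NO3S.SN2.PathW

open Subgroup Pointwise Cfsg.Agent.Omega.S5.Def Cfsg.Agent.Omega.NSix.Base Cfsg.Agent.Omega.NSix.Basic

universe u

variable {G : Type u} [Group G] {n : ℕ}

/-- The stabiliser of the component of `V` in the graph of the lines on `z`. -/
def M0 [NeZero n] (V : Subgroup G) (ε : (Fin n → ZMod 2) → G) : Subgroup G :=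
  normalizer (V : Set G) ⊓ centralizer ({zz ε 0} : Set G) ⊔ ⨆ p : {p : Fin n × Fin n // Gp p.1 p.2},
    XX ε p.1.1 p.1.2

theorem M0_induction [NeZero n] {V : Subgroup G} {ε : (Fin n → ZMod 2) → G} {P : G → Prop} (h1 : P 1)
    (hN : ∀ m, P m → ∀ x ∈ normalizer (V : Set G) ⊓ centralizer ({zz ε 0} : Set G), P (m * x))
    (hX : ∀ m, P m → ∀ i j, Gp i j → ∀ x ∈ XX ε i j, P (m * x)) : ∀ m ∈ M0 V ε, P m := by
  have hle : M0 V ε ≤ closure ({x | x ∈ normalizer (V : Set G) ⊓ centralizer ({zz ε 0} : Set G)} ∪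
      {x | ∃ i j, Gp i j ∧ x ∈ XX ε i j}) := by
    unfold M0
    refine sup_le (fun x hx => subset_closure (Or.inl hx)) (iSup_le ?_)
    rintro ⟨⟨i, j⟩, hp⟩ x hx
    exact subset_closure (Or.inr ⟨i, j, hp, hx⟩)
  intro m hm
  refine Subgroup.closure_induction_right (p := fun m _ => P m) h1 ?_ ?_ (hle hm)
  · rintro x - y hy hPx
    rcases hy with hy | ⟨i, j, hp, hy⟩
    · exact hN x hPx y hy
    · exact hX x hPx i j hp y hy
  · rintro x - y hy hPx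
    rcases hy with hy | ⟨i, j, hp, hy⟩
    · exact hN x hPx y⁻¹ (inv_mem hy)
    · exact hX x hPx i j hp y⁻¹ (inv_mem hy)

namespace Sit

variable [NeZero n] {V W : Subgroup G} {ε : (Fin n → ZMod 2) → G} {Wp : Fin n → Fin n → Subgroup G}
  (h : Sit V W ε Wp) {E : Subgroup G}
include h

theorem M0_le : M0 V ε ≤ centralizer ({zz ε 0} : Set G) := by
  unfold M0
  refine sup_le inf_le_right (iSup_le ?_)
  rintro ⟨⟨i, j⟩, hp⟩
  exact h.XX_le hp

/-- Conjugation of the hypotheses on `E`. -/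
theorem inp_conj (I : Inp V W E) {c : G} (hc : c ∈ centralizer ({zz ε 0} : Set G))
    (hcen : ∀ e ∈ E, ∀ v ∈ V, e * (c * v * c⁻¹) = (c * v * c⁻¹) * e) :
    Inp V W (MulAut.conj c⁻¹ • E) := by
  have hcW : ∀ w ∈ W, c * w * c⁻¹ ∈ W := h.nW c hc
  have hmem : ∀ x ∈ (MulAut.conj c⁻¹ • E : Subgroup G), ∃ e ∈ E, x = c⁻¹ * e * c := by
    rintro _ ⟨e, he, rfl⟩
    exact ⟨e, he, by simp⟩
  refine ⟨?_, ?_, ?_⟩
  · intro x hx
    obtain ⟨e, he, rfl⟩ := hmem x hx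
    rw [mem_centralizer_iff]
    intro v hv
    have h1 := hcen e he v hv
    calc v * (c⁻¹ * e * c) = c⁻¹ * ((c * v * c⁻¹) * e) * c := by group
      _ = c⁻¹ * (e * (c * v * c⁻¹)) * c := by rw [h1]
      _ = c⁻¹ * e * c * v := by group
  · intro w hw x hx y hy
    obtain ⟨e, he, rfl⟩ := hmem x hx
    obtain ⟨e', he', rfl⟩ := hmem y hy
    have h1 := I.quad _ (hcW w hw) e he e' he'
    calc c⁻¹ * e' * c * (c⁻¹ * e * c * w * (c⁻¹ * e * c)⁻¹ * w⁻¹) =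
        c⁻¹ * (e' * (e * (c * w * c⁻¹) * e⁻¹ * (c * w * c⁻¹)⁻¹)) * c := by group
      _ = c⁻¹ * (e * (c * w * c⁻¹) * e⁻¹ * (c * w * c⁻¹)⁻¹ * e') * c := by rw [h1]
      _ = _ := by group
  · intro w hw d hd x hx
    obtain ⟨e, he, rfl⟩ := hmem x hx
    have h1 := I.four _ (hcW w hw) (c * d * c⁻¹) (fun e' he' => ?_) e he
    · calc c⁻¹ * e * c * w = c⁻¹ * (e * (c * w * c⁻¹)) * c := by group
        _ = c⁻¹ * ((c * w * c⁻¹) * e) * c := by rw [h1]
        _ = _ := by group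
    · have h2 := hd (c⁻¹ * e' * c) ⟨e', he', by simp⟩
      have e1 : e' * (c * w * c⁻¹) * e'⁻¹ = c * (c⁻¹ * e' * c * w * (c⁻¹ * e' * c)⁻¹) * c⁻¹ := by group
      rw [e1]
      rcases h2 with h2 | h2
      · left; rw [h2]
      · right; rw [h2]; group

/-- The pairs of one line: all or none. -/
theorem one_line [Finite G] (I : Inp V W E) {i j : Fin n} (hp : Gp i j)
    (hfix : ∀ w ∈ Wp i j, ∀ e ∈ E, e * w = w * e) {k l : Fin n} (hkl : Gp k l) :
    ∀ w ∈ Wp k l, ∀ e ∈ E, e * w = w * e := by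
  intro w hw e he
  by_contra hne
  have hwV : w ∉ V := fun h0 => hne (h.comm_of (I.cen he) h0)
  have h1 := h.fc_spec hkl (I.cen he) hw hwV
  have hm : ∃ e ∈ E, fc ε Wp k l e ≠ 0 ∨ fc ε Wp l k e ≠ 0 := by
    refine ⟨e, he, ?_⟩
    by_contra hcon
    push Not at hcon
    rw [hcon.1, hcon.2, tt_zero h.ev, mul_one] at h1
    exact hne (mul_inv_eq_iff_eq_mul.1 h1)
  obtain ⟨e', he', hf⟩ := h.star I hkl hm hp
  obtain ⟨u, hu, huV⟩ := h.nV i j hp
  have h2 := h.fc_spec hp (I.cen he') hu huV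
  rw [hfix u hu e' he', mul_inv_cancel_right] at h2
  have h3 : tt ε i j (fc ε Wp i j e') (fc ε Wp j i e') = tt ε i j 0 0 := by
    rw [tt_zero h.ev]
    exact (mul_eq_left.1 h2.symm)
  exact hf (tt_inj h.ev h.n3 hp.2.2 h3).1

/-- **(A).** -/
theorem all [Finite G] (I : Inp V W E) {i j : Fin n} (hp : Gp i j)
    (hfix : ∀ w ∈ Wp i j, ∀ e ∈ E, e * w = w * e) :
    ∀ m ∈ M0 V ε, ∀ k l, Gp k l → ∀ w ∈ Wp k l, ∀ e ∈ E, e * (m * w * m⁻¹) = (m * w * m⁻¹) * e := by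
  have hV : ∀ (m : G), (∀ k l, Gp k l → ∀ w ∈ Wp k l, ∀ e ∈ E, e * (m * w * m⁻¹) = (m * w * m⁻¹) * e) →
      ∀ e ∈ E, ∀ v ∈ V, e * (m * v * m⁻¹) = (m * v * m⁻¹) * e := fun m hm e he v hv =>
    hm i j hp v (h.VW i j hp hv) e he
  -- the step: one pair of the line `V^m` fixed implies all pairs fixed
  have stp : ∀ m ∈ centralizer ({zz ε 0} : Set G), ∀ a b, Gp a b →
      (∀ w ∈ Wp a b, ∀ e ∈ E, e * (m * w * m⁻¹) = (m * w * m⁻¹) * e) →
      ∀ k l, Gp k l → ∀ w ∈ Wp k l, ∀ e ∈ E, e * (m * w * m⁻¹) = (m * w * m⁻¹) * e := by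
    intro m hm a b hab hfx k l hkl w hw e he
    have hcen : ∀ e ∈ E, ∀ v ∈ V, e * (m * v * m⁻¹) = (m * v * m⁻¹) * e := fun e he v hv =>
      hfx v (h.VW a b hab hv) e he
    have I' := h.inp_conj I hm hcen
    have h1 : ∀ w ∈ Wp a b, ∀ x ∈ (MulAut.conj m⁻¹ • E : Subgroup G), x * w = w * x := by
      rintro w hw _ ⟨e, he, rfl⟩
      have h2 := hfx w hw e he
      change m⁻¹ * e * m⁻¹⁻¹ * w = w * (m⁻¹ * e * m⁻¹⁻¹)
      calc m⁻¹ * e * m⁻¹⁻¹ * w = m⁻¹ * (e * (m * w * m⁻¹)) * m := by group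
        _ = m⁻¹ * ((m * w * m⁻¹) * e) * m := by rw [h2]
        _ = _ := by group
    have h3 := h.one_line I' hab h1 hkl w hw (m⁻¹ * e * m⁻¹⁻¹) ⟨e, he, rfl⟩
    calc e * (m * w * m⁻¹) = m * (m⁻¹ * e * m⁻¹⁻¹ * w) * m⁻¹ := by group
      _ = m * (w * (m⁻¹ * e * m⁻¹⁻¹)) * m⁻¹ := by rw [h3]
      _ = _ := by group
  have key : ∀ m ∈ M0 V ε, (m ∈ centralizer ({zz ε 0} : Set G)) ∧
      ∀ k l, Gp k l → ∀ w ∈ Wp k l, ∀ e ∈ E, e * (m * w * m⁻¹) = (m * w * m⁻¹) * e := by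
    refine M0_induction ?_ ?_ ?_
    · refine ⟨one_mem _, stp 1 (one_mem _) i j hp ?_⟩
      intro w hw e he
      have h1 := hfix w hw e he
      rw [one_mul, inv_one, mul_one]
      exact h1
    · rintro m ⟨hmz, hm⟩ x hx
      have hxz := (mem_inf.1 hx).2
      obtain ⟨σ, hσ⟩ := h.ev.perm x (mem_inf.1 hx).1
      refine ⟨mul_mem hmz hxz, fun k l hkl w hw e he => ?_⟩
      have h1 := hm (σ k) (σ l) (h.gp hxz hσ hkl) _ (h.conj x hxz σ hσ k l hkl w hw) e he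
      have e1 : m * x * w * (m * x)⁻¹ = m * (x * w * x⁻¹) * m⁻¹ := by group
      rw [e1]
      exact h1
    · rintro m ⟨hmz, hm⟩ a b hab x hx
      have hxz := h.XX_le hab hx
      refine ⟨mul_mem hmz hxz, stp (m * x) (mul_mem hmz hxz) a b hab ?_⟩
      intro w hw e he
      have h1 := hm a b hab _ (h.nor a b hab x hx w hw) e he
      have e1 : m * x * w * (m * x)⁻¹ = m * (x * w * x⁻¹) * m⁻¹ := by group
      rw [e1]
      exact h1
  exact fun m hm => (key m hm).2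

/-- (A) for the lines `V^m`. -/
theorem all_V [Finite G] (I : Inp V W E) {i j : Fin n} (hp : Gp i j)
    (hfix : ∀ w ∈ Wp i j, ∀ e ∈ E, e * w = w * e) :
    ∀ m ∈ M0 V ε, ∀ v ∈ V, ∀ e ∈ E, e * (m * v * m⁻¹) = (m * v * m⁻¹) * e :=
  fun m hm v hv => h.all I hp hfix m hm i j hp v (h.VW i j hp hv)

/-- **(B).** -/
theorem centre [Finite G] {τ c : G} (hτV : ∀ v ∈ V, τ * v = v * τ)
    (htv : ∀ w ∈ W, τ * w * τ⁻¹ = w ∨ τ * w * τ⁻¹ = w * c)
    (hmov : ∃ m ∈ M0 V ε, ∃ v ∈ V, τ * (m * v * m⁻¹) ≠ (m * v * m⁻¹) * τ) :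
    ∃ m ∈ M0 V ε, (∀ v ∈ V, τ * (m * v * m⁻¹) = (m * v * m⁻¹) * τ) ∧
      ((∃ i, i ≠ 0 ∧ c = m * zz ε i * m⁻¹) ∨ ∃ i j, Gp i j ∧ c = m * rr ε i j * m⁻¹) := by
  by_contra hcon
  push Not at hcon
  obtain ⟨m₀, hm₀, v₀, hv₀, hne⟩ := hmov
  apply hne
  -- all lines are centralised
  have key : ∀ m ∈ M0 V ε, (m ∈ M0 V ε) ∧ ∀ v ∈ V, τ * (m * v * m⁻¹) = (m * v * m⁻¹) * τ := by
    refine M0_induction ?_ ?_ ?_
    · refine ⟨one_mem _, fun v hv => ?_⟩
      rw [one_mul, inv_one, mul_one]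
      exact hτV v hv
    · rintro m ⟨hmM, hm⟩ x hx
      refine ⟨mul_mem hmM (mem_sup_left hx), fun v hv => ?_⟩
      have h1 := hm _ ((mem_normalizer_iff.1 (mem_inf.1 hx).1 v).1 hv)
      have e1 : m * x * v * (m * x)⁻¹ = m * (x * v * x⁻¹) * m⁻¹ := by group
      rw [e1]
      exact h1
    · rintro m ⟨hmM, hm⟩ a b hab x hx
      have hxM : x ∈ M0 V ε := by
        unfold M0
        exact mem_sup_right (mem_iSup_of_mem ⟨⟨a, b⟩, hab⟩ hx)
      refine ⟨mul_mem hmM hxM, fun v hv => ?_⟩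
      have hw := h.nor a b hab x hx v (h.VW a b hab hv)
      have e1 : m * x * v * (m * x)⁻¹ = m * (x * v * x⁻¹) * m⁻¹ := by group
      rw [e1]
      set w := x * v * x⁻¹ with hwd
      by_contra hnw
      have hwV : w ∉ V := fun h0 => hnw (hm w h0)
      -- `τ' = m⁻¹ τ m` centralises `V`
      have hmz := h.M0_le hmM
      have hτ' : m⁻¹ * τ * m ∈ centralizer (V : Set G) := by
        rw [mem_centralizer_iff]
        intro v hv
        have h1 := hm v hv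
        calc v * (m⁻¹ * τ * m) = m⁻¹ * ((m * v * m⁻¹) * τ) * m := by group
          _ = m⁻¹ * (τ * (m * v * m⁻¹)) * m := by rw [h1]
          _ = _ := by group
      have h2 := h.fc_spec hab hτ' hw hwV
      have h3 := htv _ (h.nW m hmz w (h.le a b hab hw))
      have e2 : τ * (m * w * m⁻¹) * τ⁻¹ = m * (m⁻¹ * τ * m * w * (m⁻¹ * τ * m)⁻¹) * m⁻¹ := by group
      rcases h3 with h3 | h3
      · exact hnw (mul_inv_eq_iff_eq_mul.1 h3)
      · rw [e2, h2] at h3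
        have h4 : c = m * tt ε a b (fc ε Wp a b (m⁻¹ * τ * m)) (fc ε Wp b a (m⁻¹ * τ * m)) * m⁻¹ := by
          have h5 : m * w * m⁻¹ * c = m * w * m⁻¹ *
              (m * tt ε a b (fc ε Wp a b (m⁻¹ * τ * m)) (fc ε Wp b a (m⁻¹ * τ * m)) * m⁻¹) := by
            rw [← h3]; group
          exact mul_left_cancel h5
        have h6 := hcon m hmM hm
        rcases z01 (fc ε Wp a b (m⁻¹ * τ * m)) with k1 | k1 <;>
          rcases z01 (fc ε Wp b a (m⁻¹ * τ * m)) with k2 | k2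
        · rw [k1, k2, tt_zero h.ev, mul_one] at h2
          apply hnw
          have h7 := mul_inv_eq_iff_eq_mul.1 h2
          calc τ * (m * w * m⁻¹) = m * (m⁻¹ * τ * m * w) * m⁻¹ := by group
            _ = m * (w * (m⁻¹ * τ * m)) * m⁻¹ := by rw [h7]
            _ = _ := by group
        · rw [k1, k2, tt_zero_one] at h4
          exact h6.1 b hab.2.1 h4
        · rw [k1, k2, tt_one_zero] at h4
          exact h6.1 a hab.1 h4
        · rw [k1, k2, tt_one_one h.ev] at h4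
          exact h6.2 a b hab h4
  exact (key m₀ hm₀).2 v₀ hv₀

end Sit

end Cfsg.Agent.Omega.NO3S.SN2.PathW
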